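import Groth.Prelude.Def_WeilCoh
import Groth.Agent.TopDimLib.Basic
import Groth.Agent.VarDim.Algebra
import Mathlib.AlgebraicGeometry.Morphisms.FiniteType
import Mathlib.AlgebraicGeometry.AlgClosed.Basic

/-!
# Dimension of the closure of a point = transcendence degree of its residue field
-/

universe u

noncomputable section

open AlgebraicGeometry CategoryTheory

namespace Groth.Agent.Weil

variable {k : Type u} [Field k] {X Y : Scheme.{u}}

/-- The structure map `k → κ(x)`. -/
def structMap (f : X ⟶ Spec (CommRingCat.of k)) (x : X) : k →+* X.residueField x :=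
  ((Scheme.ΓSpecIso (CommRingCat.of k)).inv ≫ f.appTop ≫ X.Γevaluation x).hom

/-- The transcendence degree of the residue field over the base field. -/
def trPt (f : X ⟶ Spec (CommRingCat.of k)) (x : X) : Cardinal.{u} :=
  letI := (structMap f x).toAlgebra
  Algebra.trdeg k (X.residueField x)

theorem structMap_comp (g : X ⟶ Y) (f : Y ⟶ Spec (CommRingCat.of k)) (x : X) :
    structMap (g ≫ f) x = (g.residueFieldMap x).hom.comp (structMap f (g x)) := by
  rw [structMap, structMap, ← CommRingCat.hom_comp, Category.assoc, Category.assoc,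
    Scheme.Γevaluation_naturality, Scheme.Hom.comp_appTop, Category.assoc]

theorem structMap_id_surjective (y : Spec (CommRingCat.of k)) :
    Function.Surjective (structMap (𝟙 (Spec (CommRingCat.of k))) y) := by
  haveI : y.asIdeal.IsPrime := y.isPrime
  have h : (CommRingCat.ofHom (algebraMap k y.asIdeal.ResidueField)) ≫
      (Scheme.Spec.residueFieldIso (CommRingCat.of k) y).inv =
      CommRingCat.ofHom (structMap (𝟙 _) y) := by
    refine (Scheme.Spec.algebraMap_residueFieldIso_inv (CommRingCat.of k) y).trans ?_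
    ext a
    simp [structMap]
    rfl
  have hbij : Function.Surjective (algebraMap k y.asIdeal.ResidueField) := by
    intro z
    obtain ⟨a, b, hb, rfl⟩ := IsFractionRing.div_surjective (A := k ⧸ y.asIdeal) z
    obtain ⟨a, rfl⟩ := Ideal.Quotient.mk_surjective a
    obtain ⟨b, rfl⟩ := Ideal.Quotient.mk_surjective b
    refine ⟨a / b, ?_⟩
    rw [map_div₀]
    rfl
  intro z
  obtain ⟨w, hw⟩ := hbij ((Scheme.Spec.residueFieldIso (CommRingCat.of k) y).hom z)
  refine ⟨w, ?_⟩
  have h2 := congrArg (fun φ => φ.hom w) h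
  simp only [CommRingCat.hom_comp, RingHom.comp_apply, CommRingCat.hom_ofHom] at h2
  rw [← h2, hw]
  simp [← CategoryTheory.comp_apply]

theorem trdeg_residueFieldMap_base (f : X ⟶ Spec (CommRingCat.of k)) (x : X) :
    (letI := (f.residueFieldMap x).hom.toAlgebra
     Algebra.trdeg ((Spec (CommRingCat.of k)).residueField (f x)) (X.residueField x)) = trPt f x := by
  letI := (f.residueFieldMap x).hom.toAlgebra
  letI := (structMap f x).toAlgebra
  letI := (structMap (𝟙 _) (f x)).toAlgebra
  haveI : IsScalarTower k ((Spec (CommRingCat.of k)).residueField (f x)) (X.residueField x) :=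
    IsScalarTower.of_algebraMap_eq' (by
      simp only [RingHom.algebraMap_toAlgebra]
      rw [← structMap_comp, Category.comp_id])
  haveI : Algebra.IsAlgebraic k ((Spec (CommRingCat.of k)).residueField (f x)) :=
    ⟨fun a => by
      obtain ⟨b, rfl⟩ := structMap_id_surjective (k := k) (f x) a
      exact isAlgebraic_algebraMap (R := k) b⟩
  have h := trdeg_add_eq k ((Spec (CommRingCat.of k)).residueField (f x)) (A := X.residueField x)
  rw [trdeg_eq_zero, zero_add] at h
  exact h

theorem trPt_eq_of_residueDegree_ne_zero (g : X ⟶ Y) (f : Y ⟶ Spec (CommRingCat.of k)) (x : X)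
    (h : g.residueDegree x ≠ 0) : trPt (g ≫ f) x = trPt f (g x) := by
  letI := (g.residueFieldMap x).hom.toAlgebra
  letI := (structMap (g ≫ f) x).toAlgebra
  letI := (structMap f (g x)).toAlgebra
  haveI : IsScalarTower k (Y.residueField (g x)) (X.residueField x) :=
    IsScalarTower.of_algebraMap_eq' (by
      simp only [RingHom.algebraMap_toAlgebra]
      rw [← structMap_comp])
  haveI : Module.Finite (Y.residueField (g x)) (X.residueField x) := Module.finite_of_finrank_pos (Nat.pos_of_ne_zero h)
  have h2 := trdeg_add_eq k (Y.residueField (g x)) (A := X.residueField x)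
  rw [trdeg_eq_zero (R := Y.residueField (g x)), add_zero] at h2
  exact h2.symm

/-- Data of an affine chart around `x`. -/
theorem exists_chart_dim (f : X ⟶ Spec (CommRingCat.of k)) [LocallyOfFiniteType f] (x : X)
    (U : X.Opens) (hU : IsAffineOpen U) (hxU : x ∈ U) :
    ∃ n : ℕ, trPt f x = n ∧
      topologicalKrullDim ↥((Subtype.val : ↥(closure ({x} : Set X)) → X) ⁻¹' (U : Set X)) =
        ((n : ℕ∞) : WithBot ℕ∞) := by
  set p := hU.primeIdealOf ⟨x, hxU⟩ with hp
  let φ : k →+* Γ(X, U) :=
    ((Scheme.ΓSpecIso (CommRingCat.of k)).inv ≫ f.appLE ⊤ U (by simp)).hom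
  have hφ : φ.FiniteType := by
    refine RingHom.FiniteType.comp (f.finiteType_appLE (isAffineOpen_top _) hU (by simp)) ?_
    exact RingHom.FiniteType.of_surjective _
      (Scheme.ΓSpecIso (CommRingCat.of k)).symm.commRingCatIsoToRingEquiv.surjective
  letI : Algebra k Γ(X, U) := φ.toAlgebra
  haveI : Algebra.FiniteType k Γ(X, U) := hφ
  letI := (structMap f x).toAlgebra
  let e : Γ(X, U) →ₐ[k] X.residueField x :=
    { (X.evaluation U x hxU).hom with
      commutes' := fun r => by
        have : (X.evaluation U x hxU).hom.comp φ = structMap f x := by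
          simp only [φ, structMap, ← CommRingCat.hom_comp, Category.assoc]
          rw [← CommRingCat.hom_comp]
          congr 1
          simp only [Scheme.Hom.appLE, Scheme.Hom.appTop, Scheme.evaluation, Category.assoc,
            TopCat.Presheaf.germ_res_assoc]
          rfl
        exact RingHom.congr_fun this r }
  haveI := hU.isLocalization_stalk ⟨x, hxU⟩
  letI : Algebra Γ(X, U) (X.presheaf.stalk x) := TopCat.Presheaf.algebra_section_stalk X.presheaf ⟨x, hxU⟩
  have he : ∀ a, e a = X.residue x (algebraMap Γ(X, U) (X.presheaf.stalk x) a) := fun a => rfl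
  have hres : ∀ s, X.residue x s = 0 ↔ s ∈ IsLocalRing.maximalIdeal (X.presheaf.stalk x) :=
    fun s => IsLocalRing.residue_eq_zero_iff s
  have hker : ∀ a, e a = 0 ↔ a ∈ p.asIdeal := fun a => by
    rw [he, hres]
    exact IsLocalization.AtPrime.to_map_mem_maximal_iff (X.presheaf.stalk x) p.asIdeal a
  let ebar : (Γ(X, U) ⧸ p.asIdeal) →ₐ[k] X.residueField x :=
    Ideal.Quotient.liftₐ p.asIdeal e fun a ha => (hker a).mpr ha
  have hinj : Function.Injective ebar := by
    refine (injective_iff_map_eq_zero _).mpr fun a => ?_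
    obtain ⟨a, rfl⟩ := Ideal.Quotient.mk_surjective a
    exact fun ha => Ideal.Quotient.eq_zero_iff_mem.mpr ((hker a).mp ha)
  letI : Algebra (Γ(X, U) ⧸ p.asIdeal) (X.residueField x) := ebar.toRingHom.toAlgebra
  haveI : FaithfulSMul (Γ(X, U) ⧸ p.asIdeal) (X.residueField x) :=
    (faithfulSMul_iff_algebraMap_injective _ _).mpr hinj
  haveI : IsScalarTower k (Γ(X, U) ⧸ p.asIdeal) (X.residueField x) :=
    IsScalarTower.of_algebraMap_eq fun r => (ebar.commutes r).symm
  haveI : IsFractionRing (Γ(X, U) ⧸ p.asIdeal) (X.residueField x) := by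
    refine IsFractionRing.of_field _ _ fun z => ?_
    obtain ⟨s, rfl⟩ := X.residue_surjective x z
    obtain ⟨⟨a, b⟩, hab⟩ := IsLocalization.surj p.asIdeal.primeCompl s
    refine ⟨Ideal.Quotient.mk _ a, Ideal.Quotient.mk _ (b : Γ(X, U)), ?_⟩
    have hb : e b ≠ 0 := fun h => b.2 ((hker b).mp h)
    have h2 := congrArg (X.residue x) hab
    simp only [map_mul, ← he] at h2
    exact (eq_div_iff hb).mpr h2
  haveI : Algebra.IsAlgebraic (Γ(X, U) ⧸ p.asIdeal) (X.residueField x) :=
    IsLocalization.isAlgebraic _ (nonZeroDivisors (Γ(X, U) ⧸ p.asIdeal))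
  haveI : Algebra.FiniteType k (Γ(X, U) ⧸ p.asIdeal) := VarDim.finiteType_quotient k _ p.asIdeal
  obtain ⟨n, hn, htr, -⟩ := VarDim.exists_ringKrullDim_eq_trdeg k (Γ(X, U) ⧸ p.asIdeal)
  refine ⟨n, ?_, ?_⟩
  · have h := trdeg_add_eq k (Γ(X, U) ⧸ p.asIdeal) (A := X.residueField x)
    rw [trdeg_eq_zero (R := Γ(X, U) ⧸ p.asIdeal), add_zero, htr] at h
    exact h.symm
  · let g : PrimeSpectrum (Γ(X, U) ⧸ p.asIdeal) → X :=
      fun q => hU.fromSpec (PrimeSpectrum.comap (Ideal.Quotient.mk p.asIdeal) q)
    have hg : Topology.IsEmbedding g :=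
      hU.fromSpec.isOpenEmbedding.isEmbedding.comp
        (PrimeSpectrum.isClosedEmbedding_comap_of_surjective _ _ Ideal.Quotient.mk_surjective).isEmbedding
    have hrg : Set.range g = closure {x} ∩ (U : Set X) := by
      have h1 : Set.range g = hU.fromSpec '' closure ({p} : Set (Spec Γ(X, U))) := by
        have hc : Set.range (PrimeSpectrum.comap (Ideal.Quotient.mk p.asIdeal)) = closure {p} := by
          rw [range_comap_of_surjective _ _ Ideal.Quotient.mk_surjective,
            Ideal.mk_ker, ← PrimeSpectrum.closure_singleton]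
        refine (Set.range_comp (hU.fromSpec : PrimeSpectrum Γ(X, U) → X)
          (PrimeSpectrum.comap (Ideal.Quotient.mk p.asIdeal))).trans ?_
        exact congrArg _ hc
      have h2 : closure ({p} : Set (Spec Γ(X, U))) = hU.fromSpec ⁻¹' closure {x} := by
        rw [hU.fromSpec.isOpenEmbedding.isOpenMap.preimage_closure_eq_closure_preimage
          hU.fromSpec.continuous]
        congr 1
        ext q
        simp only [Set.mem_singleton_iff, Set.mem_preimage]
        constructor
        · rintro rfl; exact hU.fromSpec_primeIdealOf ⟨x, hxU⟩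
        · intro hq
          exact hU.fromSpec.isOpenEmbedding.injective
            (hq.trans (hU.fromSpec_primeIdealOf ⟨x, hxU⟩).symm)
      rw [h1, h2, Set.image_preimage_eq_inter_range, hU.range_fromSpec]
    let g' : PrimeSpectrum (Γ(X, U) ⧸ p.asIdeal) →
        ↥((Subtype.val : ↥(closure ({x} : Set X)) → X) ⁻¹' (U : Set X)) := fun q =>
      ⟨⟨g q, (hrg ▸ Set.mem_range_self q : g q ∈ closure {x} ∩ (U : Set X)).1⟩,
        (hrg ▸ Set.mem_range_self q : g q ∈ closure {x} ∩ (U : Set X)).2⟩
    have hg' : Topology.IsEmbedding g' :=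
      (Topology.IsEmbedding.subtypeVal.comp Topology.IsEmbedding.subtypeVal).of_comp_iff.mp hg
    have hs : Function.Surjective g' := by
      rintro ⟨⟨z, hz1⟩, hz2⟩
      have : z ∈ Set.range g := hrg ▸ ⟨hz1, hz2⟩
      obtain ⟨q, hq⟩ := this
      exact ⟨q, Subtype.ext (Subtype.ext hq)⟩
    rw [← (hg'.toHomeomorphOfSurjective hs).isHomeomorph.topologicalKrullDim_eq,
      PrimeSpectrum.topologicalKrullDim_eq_ringKrullDim, hn]
    rfl

theorem exists_dim_closure (f : X ⟶ Spec (CommRingCat.of k)) [LocallyOfFiniteType f] (x : X) :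
    ∃ n : ℕ, trPt f x = n ∧ topologicalKrullDim ↥(closure ({x} : Set X)) = ((n : ℕ∞) : WithBot ℕ∞) := by
  obtain ⟨U, hU, hxU, -⟩ :=
    exists_isAffineOpen_mem_and_subset (X := X) (U := ⊤) (x := x) trivial
  obtain ⟨n, hn, hdim⟩ := exists_chart_dim f x U hU hxU
  refine ⟨n, hn, le_antisymm ?_ ?_⟩
  · rw [TopDimLib.topDim_le_iff]
    intro l
    obtain ⟨⟨z, hz⟩, hzl⟩ := l.head.isIrreducible.1
    obtain ⟨V, hV, hzV, -⟩ :=
      exists_isAffineOpen_mem_and_subset (X := X) (U := ⊤) (x := z) trivial
    have hxV : x ∈ V := (specializes_iff_mem_closure.mpr hz).mem_open V.isOpen hzV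
    obtain ⟨m, hm, hdimV⟩ := exists_chart_dim f x V hV hxV
    obtain rfl : m = n := Nat.cast_inj.mp (hm.symm.trans hn)
    rw [← hdimV]
    exact TopDimLib.length_le_of_open l (V.isOpen.preimage continuous_subtype_val) hzl hzV
  · rw [← hdim]
    exact topologicalKrullDim_subspace_le _ _

theorem pdim_eq (f : X ⟶ Spec (CommRingCat.of k)) [LocallyOfFiniteType f] (x : X) :
    trPt f x = (WeilCoh.pdim X x : Cardinal) ∧
      topologicalKrullDim ↥(closure ({x} : Set X)) = ((WeilCoh.pdim X x : ℕ∞) : WithBot ℕ∞) := by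
  obtain ⟨n, hn, hd⟩ := exists_dim_closure f x
  have : WeilCoh.pdim X x = n := by
    simp [WeilCoh.pdim, WeilCoh.natDim, hd]
  exact ⟨by rw [hn, this], by rw [hd, this]⟩

theorem pdim_eq_of_residueDegree_ne_zero (g : X ⟶ Y) (f : Y ⟶ Spec (CommRingCat.of k))
    [LocallyOfFiniteType f] [LocallyOfFiniteType (g ≫ f)] (x : X) (h : g.residueDegree x ≠ 0) :
    WeilCoh.pdim X x = WeilCoh.pdim Y (g x) := by
  have h1 := (pdim_eq (g ≫ f) x).1
  rw [trPt_eq_of_residueDegree_ne_zero g f x h, (pdim_eq f (g x)).1] at h1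
  exact (Nat.cast_inj.mp h1).symm

theorem deltaCompat_eq_pdim (f : X ⟶ Spec (CommRingCat.of k)) [LocallyOfFiniteType f]
    {δ : X → ℤ} (hδ : Cyc.DeltaCompat f δ (fun _ => 0)) (x : X) : δ x = WeilCoh.pdim X x := by
  obtain ⟨n, hn, hd⟩ := hδ x
  rw [trdeg_residueFieldMap_base f x, (pdim_eq f x).1] at hn
  rw [hd, zero_add, Nat.cast_inj.mp hn]

theorem pdim_genericPoint (X : Scheme.{u}) [IrreducibleSpace X] :
    WeilCoh.pdim X (genericPoint X) = WeilCoh.dim X := by
  unfold WeilCoh.pdim WeilCoh.dim WeilCoh.natDim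
  rw [show closure ({genericPoint X} : Set X) = Set.univ from genericPoint_closure _,
    (Homeomorph.Set.univ X).isHomeomorph.topologicalKrullDim_eq]

theorem pdim_le_dim (f : X ⟶ Spec (CommRingCat.of k)) [LocallyOfFiniteType f] [IrreducibleSpace X]
    (x : X) : WeilCoh.pdim X x ≤ WeilCoh.dim X := by
  rw [← pdim_genericPoint X]
  have h := TopDimLib.topDim_le_of_subset
    (show closure ({x} : Set X) ⊆ closure {genericPoint X} by rw [genericPoint_closure]; exact Set.subset_univ _)
  rw [(pdim_eq f x).2, (pdim_eq f _).2] at h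
  exact_mod_cast h

theorem pdim_of_isClosed {x : X} (hx : IsClosed ({x} : Set X)) : WeilCoh.pdim X x = 0 := by
  unfold WeilCoh.pdim WeilCoh.natDim
  rw [hx.closure_eq]
  have h := topologicalKrullDim_zero_of_discreteTopology ({x} : Set X)
  cases hd : topologicalKrullDim ({x} : Set X) using WithBot.recBotCoe with
  | bot => rfl
  | coe a => rw [hd] at h; have : a = 0 := by simpa using h
             subst this; rfl

end Groth.Agent.Weil
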