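import Groth.Agent.Weil.Geometry
import Groth.Prelude.Def_ChowOps
import Mathlib.AlgebraicGeometry.ProjectiveSpectrum.Proper
import Mathlib.RingTheory.MvPolynomial.Homogeneous

/-!
# Classes of cycles
-/

universe u v

noncomputable section

open AlgebraicGeometry CategoryTheory

namespace Groth.Agent.Weil

set_option backward.isDefEq.respectTransparency.types false in
theorem quasiCompact_toSpec' (n : ℕ) (R : Type u) [CommRing R]
    [Algebra.FiniteType (CohB1.polyGrading n R 0) (MvPolynomial (Fin (n + 1)) R)] :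
    QuasiCompact (CohB1.ProjSpace.toSpec n R) := by
  unfold CohB1.ProjSpace.toSpec
  have h1 : QuasiCompact (Proj.toSpecZero (CohB1.polyGrading n R)) := inferInstance
  have h2 : QuasiCompact (Spec.map (CommRingCat.ofHom (algebraMap R (CohB1.polyGrading n R 0)))) :=
    inferInstance
  exact @quasiCompact_comp _ _ _ _ _ h1 h2

set_option backward.isDefEq.respectTransparency.types false in
theorem quasiCompact_toSpec (n : ℕ) (R : Type u) [CommRing R] :
    QuasiCompact (CohB1.ProjSpace.toSpec n R) := by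
  let i : CohB1.polyGrading n R 0 →+* MvPolynomial (Fin (n + 1)) R :=
    (SetLike.GradeZero.subring (CohB1.polyGrading n R)).subtype
  have hcomp : i.comp (algebraMap R (CohB1.polyGrading n R 0)) =
      algebraMap R (MvPolynomial (Fin (n + 1)) R) := rfl
  have hft : (algebraMap R (MvPolynomial (Fin (n + 1)) R)).FiniteType :=
    RingHom.finiteType_algebraMap.mpr inferInstance
  exact @quasiCompact_toSpec' n R _ (RingHom.FiniteType.of_comp_finiteType
    (f := algebraMap R (CohB1.polyGrading n R 0)) (g := i) (hcomp ▸ hft))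

variable {k : Type u} [Field k] [IsAlgClosed k]
variable {K : Type v} [Field K] [CharZero K] (T : WeilCoh.Theory k K)
variable {X Y : WeilCoh.Var k}

theorem compactSpace (X : WeilCoh.Var k) : CompactSpace ↥X.obj.left := by
  obtain ⟨n, i, hi, hi'⟩ := X.property.2.1
  haveI := quasiCompact_toSpec n (ULift.{u} ℤ)
  haveI : QuasiCompact (CohB1.ProjSpaceOver.toBase n (Spec (CommRingCat.of k))) := by
    unfold CohB1.ProjSpaceOver.toBase CohB1.ProjSpaceOver
    infer_instance
  haveI : QuasiCompact X.obj.hom := hi' ▸ inferInstance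
  exact QuasiCompact.compactSpace_of_compactSpace X.obj.hom

theorem finite_support (α : AlgebraicCycle X.obj.left ℤ) :
    (Function.support (fun x => α x)).Finite := by
  haveI := compactSpace X
  simpa using α.locallyFiniteSupport.finite_inter_support_of_isCompact (isCompact_univ)

theorem clCyc_eq_sum (α : AlgebraicCycle X.obj.left ℤ) :
    T.clCyc X α = ∑ ξ ∈ (finite_support α).toFinset, ((α ξ : ℤ) : K) • T.cl X ξ := by
  unfold WeilCoh.TheoryOn.clCyc
  refine finsum_eq_sum_of_support_subset _ fun ξ hξ => ?_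
  simp only [Set.Finite.coe_toFinset, Function.mem_support] at hξ ⊢
  intro h0
  simp [h0] at hξ

theorem tr_clCyc_mul (α : AlgebraicCycle X.obj.left ℤ) (b : T.H X) :
    T.tr X (T.clCyc X α * b) =
      ∑ ξ ∈ (finite_support α).toFinset, (α ξ : K) * T.tr X (T.cl X ξ * b) := by
  rw [clCyc_eq_sum, Finset.sum_mul, map_sum]
  exact Finset.sum_congr rfl fun ξ _ => by rw [smul_mul_assoc, map_smul, smul_eq_mul]

open scoped Classical in
theorem map_apply_eq_sum {f : X ⟶ Y} [QuasiCompact (WeilCoh.sm f)] (δX : X.obj.left → ℤ)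
    (δY : Y.obj.left → ℤ) (α : AlgebraicCycle X.obj.left ℤ) (z : Y.obj.left) :
    AlgebraicCycle.map (WeilCoh.sm f) δX δY α z =
      ∑ x ∈ (finite_support α).toFinset with WeilCoh.sm f x = z,
        α x * (AlgebraicCycle.mapCoeff (WeilCoh.sm f) δX δY x : ℤ) := by
  rw [show AlgebraicCycle.map (WeilCoh.sm f) δX δY α z =
    ∑ᶠ x ∈ (WeilCoh.sm f) ⁻¹' {z}, α x * (AlgebraicCycle.mapCoeff (WeilCoh.sm f) δX δY x : ℤ) from rfl]
  refine finsum_mem_eq_sum_of_inter_support_eq _ ?_
  ext x
  simp only [Set.mem_inter_iff, Set.mem_preimage, Set.mem_singleton_iff, Function.mem_support,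
    Finset.coe_filter, Set.Finite.mem_toFinset, Set.mem_setOf_eq]
  constructor
  · rintro ⟨h1, h2⟩
    exact ⟨⟨left_ne_zero_of_mul h2, h1⟩, h2⟩
  · rintro ⟨⟨-, h1⟩, h2⟩
    exact ⟨h1, h2⟩

theorem tr_clCyc_map_mul {f : X ⟶ Y} [QuasiCompact (WeilCoh.sm f)] (δX : X.obj.left → ℤ)
    (δY : Y.obj.left → ℤ) (α : AlgebraicCycle X.obj.left ℤ) (b : T.H Y) :
    T.tr Y (T.clCyc Y (AlgebraicCycle.map (WeilCoh.sm f) δX δY α) * b) =
      ∑ x ∈ (finite_support α).toFinset, (α x : K) *
        (AlgebraicCycle.mapCoeff (WeilCoh.sm f) δX δY x : K) * T.tr Y (T.cl Y (WeilCoh.sm f x) * b) := by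
  classical
  set β := AlgebraicCycle.map (WeilCoh.sm f) δX δY α
  set S := (finite_support α).toFinset
  have hsub : (finite_support β).toFinset ⊆ S.image (WeilCoh.sm f) := by
    intro z hz
    simp only [Set.Finite.mem_toFinset, Function.mem_support] at hz
    rw [map_apply_eq_sum] at hz
    obtain ⟨x, hx, -⟩ := Finset.exists_ne_zero_of_sum_ne_zero hz
    rw [Finset.mem_filter] at hx
    exact Finset.mem_image.mpr ⟨x, hx.1, hx.2⟩
  rw [tr_clCyc_mul, Finset.sum_subset hsub (fun z _ hz => by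
    simp only [Set.Finite.mem_toFinset, Function.mem_support, ne_eq, not_not] at hz
    simp [hz]), ← Finset.sum_fiberwise_of_maps_to (s := S) (t := S.image (WeilCoh.sm f))
      (g := fun x => WeilCoh.sm f x) (fun x hx => Finset.mem_image_of_mem _ hx)]
  refine Finset.sum_congr rfl fun z _ => ?_
  rw [map_apply_eq_sum, Int.cast_sum, Finset.sum_mul]
  refine Finset.sum_congr rfl fun x hx => ?_
  rw [(Finset.mem_filter.mp hx).2, Int.cast_mul, Int.cast_natCast]

theorem clCyc_push (f : X ⟶ Y) [QuasiCompact (WeilCoh.sm f)] {δX : X.obj.left → ℤ}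
    (hδX : Cyc.DeltaCompat X.obj.hom δX (fun _ => 0)) {δY : Y.obj.left → ℤ}
    (hδY : Cyc.DeltaCompat Y.obj.hom δY (fun _ => 0)) (α : AlgebraicCycle X.obj.left ℤ) (b : T.H Y) :
    T.tr Y (T.clCyc Y (AlgebraicCycle.map (WeilCoh.sm f) δX δY α) * b) =
      T.tr X (T.clCyc X α * T.pull f b) := by
  haveI := lft X; haveI := lft Y
  rw [tr_clCyc_map_mul, tr_clCyc_mul]
  refine Finset.sum_congr rfl fun x _ => ?_
  rw [cl_push_all T f x b, mul_assoc]
  congr 2
  unfold AlgebraicCycle.mapCoeff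
  split_ifs with h
  · rfl
  · by_contra hd
    refine h ?_
    rw [deltaCompat_eq_pdim _ hδX, deltaCompat_eq_pdim _ hδY,
      pdim_sm_of_residueDegree_ne_zero f x fun h0 => hd (by rw [h0])]

theorem cast_deg [QuasiCompact X.obj.hom] {δ : X.obj.left → ℤ}
    (hδ : Cyc.DeltaCompat X.obj.hom δ (fun _ => 0))
    (α : AlgebraicCycle X.obj.left ℤ) (hα : α ∈ Cyc.Zk X.obj.left δ 0) :
    (ChowOps.deg X.obj.hom δ α : K) = T.tr X (T.clCyc X α) := by
  classical
  haveI : QuasiCompact (WeilCoh.sm (toPt X)) := ‹QuasiCompact X.obj.hom›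
  let z : ↥(pt X).obj.left := IsLocalRing.closedPoint k
  have h := map_apply_eq_sum (f := toPt X) δ (fun _ => 0) α z
  replace h := h.trans (Finset.sum_congr (s₂ := (finite_support α).toFinset) (by
    ext a; simpa using fun _ => Subsingleton.elim (α := ↥(pt X).obj.left) _ _) fun _ _ => rfl)
  rw [show ChowOps.deg X.obj.hom δ α = _ from h, Int.cast_sum,
    ← mul_one (T.clCyc X α), tr_clCyc_mul]
  refine Finset.sum_congr rfl fun x hx => ?_
  have h1 := cl_push_all T (toPt X) x 1
  rw [map_one, cl_pt, one_mul, (T.point (pt X) (dim_pt X)).2, mul_one, mul_one] at h1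
  rw [mul_one, h1, AlgebraicCycle.mapCoeff, if_pos ?_]
  · simp
  · by_contra h0
    exact (Set.Finite.mem_toFinset _).mp hx (hα x h0)

theorem pdim_eq_zero_of_mem_Zk {δ : X.obj.left → ℤ}
    (hδ : Cyc.DeltaCompat X.obj.hom δ (fun _ => 0)) {α : AlgebraicCycle X.obj.left ℤ}
    (hα : α ∈ Cyc.Zk X.obj.left δ 0) {x : X.obj.left} (hx : α x ≠ 0) :
    WeilCoh.pdim X.obj.left x = 0 := by
  haveI := lft X
  by_contra h
  refine hx (hα x ?_)
  rw [deltaCompat_eq_pdim _ hδ]
  exact_mod_cast h

theorem clCyc_mem_top {δ : X.obj.left → ℤ}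
    (hδ : Cyc.DeltaCompat X.obj.hom δ (fun _ => 0)) {α : AlgebraicCycle X.obj.left ℤ}
    (hα : α ∈ Cyc.Zk X.obj.left δ 0) :
    T.clCyc X α ∈ T.gr X (2 * (WeilCoh.dim X.obj.left : ℤ)) := by
  rw [clCyc_eq_sum]
  refine sum_mem fun x hx => Submodule.smul_mem _ _ ?_
  have h := T.cl_mem X x
  rw [two_codim, pdim_eq_zero_of_mem_Zk hδ hα ((Set.Finite.mem_toFinset _).mp hx)] at h
  simpa using h

end Groth.Agent.Weil
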