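import Mathlib.FieldTheory.Relrank
import Mathlib.FieldTheory.Perfect
import Mathlib.Algebra.CharP.Algebra
import Mathlib.FieldTheory.IntermediateField.Adjoin.Algebra
import Mathlib.RingTheory.AlgebraicIndependent.TranscendenceBasis
import Mathlib.RingTheory.EssentialFiniteness

/-!
# The degree of a finitely generated field over its subfield of `q`-th powers
-/

universe u

noncomputable section

namespace Groth.Agent.Weil.FrobField

open MvPolynomial

variable {k L : Type u} [Field k] [Field L] [Algebra k L] {p : ℕ} [ExpChar L p] {e : ℕ}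
variable {n : ℕ} {t : Fin n → L}

theorem algebraMap_mem_map (hk : Function.Surjective fun c : k => c ^ p ^ e) (c : k) :
    algebraMap k L c ∈ (IntermediateField.adjoin k (Set.range t)).toSubfield.map (iterateFrobenius L p e) := by
  obtain ⟨d, rfl⟩ := hk c
  exact ⟨algebraMap k L d, IntermediateField.algebraMap_mem _ d, by simp [iterateFrobenius_def]⟩

/-- The monomials of degree `< q` in each variable. -/
def mon (q : ℕ) (t : Fin n → L) (a : Fin n → Fin q) : L := ∏ i, t i ^ (a i : ℕ)

theorem map_le (hk : Function.Surjective fun c : k => c ^ p ^ e) :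
    (IntermediateField.adjoin k (Set.range t)).toSubfield.map (iterateFrobenius L p e) ≤
      (IntermediateField.adjoin k (Set.range t)).toSubfield := by
  rintro _ ⟨x, hx, rfl⟩
  rw [iterateFrobenius_def]
  exact pow_mem hx _

theorem linearIndependent_mon (hk : Function.Surjective fun c : k => c ^ p ^ e)
    (ht : AlgebraicIndependent k t) :
    LinearIndependent ↥((IntermediateField.adjoin k (Set.range t)).toSubfield.map (iterateFrobenius L p e))
      (mon (p ^ e) t) := by
  classical
  haveI : ExpChar k p := (algebraMap k L).expChar (algebraMap k L).injective p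
  rw [Fintype.linearIndependent_iff]
  intro g hg
  have hc : ∀ a, ∃ r s : MvPolynomial (Fin n) k, aeval t s ≠ 0 ∧
      (g a : L) = (aeval t r / aeval t s) ^ p ^ e := by
    intro a
    obtain ⟨x, hx, hxg⟩ := (g a).2
    obtain ⟨r, s, hrs⟩ := (IntermediateField.mem_adjoin_range_iff k t x).mp hx
    rw [iterateFrobenius_def] at hxg
    by_cases hs : aeval t s = 0
    · refine ⟨0, 1, by simp, ?_⟩
      rw [← hxg, hrs, hs]; simp
    · exact ⟨r, s, hs, by rw [← hxg, hrs]⟩
  choose r s hs hgrs using hc
  let P := fun a => r a * ∏ b ∈ Finset.univ.erase a, s b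
  have hsum : ∑ a, P a ^ p ^ e * monomial (Finsupp.equivFunOnFinite.symm fun i => (a i : ℕ)) (1 : k) = 0 := by
    refine ht (?_ : aeval t _ = aeval t 0)
    rw [map_zero, map_sum]
    have h2 := congrArg (fun z => (∏ b, aeval t (s b)) ^ p ^ e * z) hg
    simp only [mul_zero, Finset.mul_sum] at h2
    refine Eq.trans ?_ h2
    refine Finset.sum_congr rfl fun a _ => ?_
    rw [Subfield.smul_def, smul_eq_mul, hgrs, map_mul, map_pow, map_mul, map_prod, aeval_monomial,
      map_one, one_mul, Finsupp.prod_fintype _ _ (fun i => pow_zero _),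
      ← Finset.mul_prod_erase Finset.univ (fun b => aeval t (s b)) (Finset.mem_univ a), ← mul_assoc,
      ← mul_pow]
    refine congrArg₂ (· * ·) (congrArg (· ^ p ^ e) ?_) ?_
    · field_simp [hs a]
    · simp [mon]
  have hP : ∀ a, P a = 0 := by
    intro a
    ext m
    rw [coeff_zero]
    let v := fun b : Fin n → Fin (p ^ e) => Finsupp.equivFunOnFinite.symm fun i => (b i : ℕ)
    have h3 := congrArg (coeff (p ^ e • m + v a)) hsum
    rw [coeff_sum, coeff_zero, Finset.sum_eq_single a] at h3
    · rw [coeff_mul_monomial, mul_one] at h3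
      conv at h3 => rw [(P a).as_sum, sum_pow_char_pow, coeff_sum]
      rw [Finset.sum_eq_single m] at h3
      · simpa [monomial_pow, pow_eq_zero_iff', (expChar_pos k p).ne', (expChar_pow_pos k p e).ne'] using h3
      · intro m' _ hm
        rw [monomial_pow, coeff_monomial, if_neg]
        intro h
        exact hm (Finsupp.ext fun i => by
          have := DFunLike.congr_fun h i
          simpa [(expChar_pos k p).ne', (expChar_pow_pos k p e).ne'] using this)
      · intro hm
        simp [notMem_support_iff.mp hm, zero_pow (expChar_pow_pos k p e).ne']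
    · intro b _ hb
      rw [coeff_mul_monomial', mul_one]
      split_ifs with hle
      · rw [(P b).as_sum, sum_pow_char_pow, coeff_sum]
        refine Finset.sum_eq_zero fun m' _ => ?_
        rw [monomial_pow, coeff_monomial, if_neg]
        intro h
        refine hb (funext fun i => Fin.ext ?_)
        have h1 := DFunLike.congr_fun h i
        have h2 := hle i
        simp [v] at h1 h2
        have h4 : (p ^ e * m i + a i) % p ^ e = (p ^ e * m' i + b i) % p ^ e := by
          rw [show p ^ e * m i + a i = p ^ e * m' i + b i by omega]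
        rw [Nat.mul_add_mod, Nat.mul_add_mod, Nat.mod_eq_of_lt (a i).2, Nat.mod_eq_of_lt (b i).2] at h4
        exact h4.symm
      · rfl
    · simp
  intro a
  refine Subtype.ext ?_
  rw [hgrs, ZeroMemClass.coe_zero]
  have h : aeval t (r a) = 0 := by
    rcases mul_eq_zero.mp (hP a) with h | h
    · rw [h, map_zero]
    · obtain ⟨b, -, hb⟩ := Finset.prod_eq_zero_iff.mp h
      exact absurd (by rw [hb, map_zero]) (hs b)
  rw [h, zero_div, zero_pow (expChar_pow_pos k p e).ne']

theorem mem_span_mon (hk : Function.Surjective fun c : k => c ^ p ^ e) {x : L}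
    (hx : x ∈ IntermediateField.adjoin k (Set.range t)) :
    x ∈ Submodule.span ↥((IntermediateField.adjoin k (Set.range t)).toSubfield.map (iterateFrobenius L p e))
      (Set.range (mon (p ^ e) t)) := by
  classical
  set F := (IntermediateField.adjoin k (Set.range t)).toSubfield
  set G := F.map (iterateFrobenius L p e)
  have hpow : ∀ y ∈ F, y ^ p ^ e ∈ G := fun y hy => ⟨y, hy, iterateFrobenius_def ..⟩
  have hq : 0 < p ^ e := expChar_pow_pos L p e
  have hmono : ∀ P : MvPolynomial (Fin n) k, aeval t P ∈ Submodule.span G (Set.range (mon (p ^ e) t)) := by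
    intro P
    rw [P.as_sum, map_sum]
    refine sum_mem fun m _ => ?_
    rw [aeval_monomial, Finsupp.prod_fintype _ _ (fun i => pow_zero _)]
    let a : Fin n → Fin (p ^ e) := fun i => ⟨m i % p ^ e, Nat.mod_lt _ hq⟩
    have : algebraMap k L (coeff m P) * ∏ i, t i ^ m i =
        (⟨algebraMap k L (coeff m P) * (∏ i, t i ^ (m i / p ^ e)) ^ p ^ e,
          mul_mem (algebraMap_mem_map hk _) (hpow _ (prod_mem fun i _ =>
            pow_mem (IntermediateField.subset_adjoin k (Set.range t) ⟨i, rfl⟩) _))⟩ : G) • mon (p ^ e) t a := by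
      rw [Subfield.smul_def, smul_eq_mul, mon, mul_assoc, ← Finset.prod_pow, ← Finset.prod_mul_distrib]
      refine congrArg _ (Finset.prod_congr rfl fun i _ => ?_)
      rw [← pow_mul, ← pow_add, Nat.div_add_mod']
    rw [this]
    exact Submodule.smul_mem _ _ (Submodule.subset_span ⟨a, rfl⟩)
  obtain ⟨r, s, rfl⟩ := (IntermediateField.mem_adjoin_range_iff k t x).mp hx
  by_cases hs : aeval t s = 0
  · rw [hs, div_zero]; exact zero_mem _
  have hsF : aeval t s ∈ F := by
    refine (IntermediateField.algebra_adjoin_le_adjoin k _) ?_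
    rw [Algebra.adjoin_range_eq_range_aeval]
    exact ⟨s, rfl⟩
  have : aeval t r / aeval t s =
      (⟨((aeval t s) ^ p ^ e)⁻¹, inv_mem (hpow _ hsF)⟩ : G) • aeval t (r * s ^ (p ^ e - 1)) := by
    rw [Subfield.smul_def, smul_eq_mul, map_mul, map_pow]
    have hsucc : (aeval t s) ^ p ^ e = (aeval t s) ^ (p ^ e - 1) * aeval t s := by
      rw [← pow_succ, Nat.sub_add_cancel hq]
    simp only [hsucc]
    field_simp
  rw [this]
  exact Submodule.smul_mem _ _ (hmono _)

theorem relfinrank_adjoin (hk : Function.Surjective fun c : k => c ^ p ^ e)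
    (ht : AlgebraicIndependent k t) :
    Subfield.relfinrank
      ((IntermediateField.adjoin k (Set.range t)).toSubfield.map (iterateFrobenius L p e))
      (IntermediateField.adjoin k (Set.range t)).toSubfield = (p ^ e) ^ n := by
  rw [Subfield.relfinrank_eq_finrank_of_le (map_le hk)]
  have hspan : Subalgebra.toSubmodule (Subfield.extendScalars (map_le (L := L) (t := t) hk)).toSubalgebra =
      Submodule.span _ (Set.range (mon (p ^ e) t)) := by
    refine le_antisymm (fun x hx => mem_span_mon hk hx) (Submodule.span_le.mpr ?_)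
    rintro _ ⟨a, rfl⟩
    show mon (p ^ e) t a ∈ IntermediateField.adjoin k (Set.range t)
    exact prod_mem fun i _ =>
      pow_mem (IntermediateField.subset_adjoin k (Set.range t) ⟨i, rfl⟩) _
  rw [← IntermediateField.finrank_eq_finrank_subalgebra, ← Subalgebra.finrank_toSubmodule, hspan,
    finrank_span_eq_card (linearIndependent_mon hk ht)]
  simp

/-- `[L : L^q] = q ^ trdeg`. -/
theorem finrank_fieldRange (hk : Function.Surjective fun c : k => c ^ p ^ e)
    [Algebra.EssFiniteType k L] (htr : Algebra.trdeg k L = n) :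
    Module.finrank ↥(iterateFrobenius L p e).fieldRange L = (p ^ e) ^ n := by
  obtain ⟨ι, x, hx⟩ := exists_isTranscendenceBasis' k L
  have hι : Cardinal.mk ι = n := by rw [hx.cardinalMk_eq_trdeg, htr]
  haveI : Finite ι := Cardinal.lt_aleph0_iff_finite.mp (hι ▸ Cardinal.natCast_lt_aleph0)
  haveI := Fintype.ofFinite ι
  let eι : Fin n ≃ ι := (Fintype.equivFinOfCardEq (by
    rw [Cardinal.mk_fintype] at hι; exact_mod_cast hι)).symm
  have hr : Set.range (x ∘ eι) = Set.range x := EquivLike.range_comp x eι
  haveI := hx.isAlgebraic_field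
  haveI : Algebra.EssFiniteType (IntermediateField.adjoin k (Set.range x)) L :=
    Algebra.EssFiniteType.of_comp k _ L
  haveI : Module.Finite (IntermediateField.adjoin k (Set.range x)) L :=
    Algebra.finite_of_essFiniteType_of_isAlgebraic
  have hF := relfinrank_adjoin hk (hx.1.comp eι eι.injective)
  rw [hr] at hF
  set F := (IntermediateField.adjoin k (Set.range x)).toSubfield
  set Φ := iterateFrobenius L p e
  have hd : Subfield.relfinrank F ⊤ ≠ 0 := by
    rw [Subfield.relfinrank_top_right]
    exact (Module.finrank_pos (R := IntermediateField.adjoin k (Set.range x)) (M := L)).ne'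
  have hmap : Subfield.relfinrank (F.map Φ) Φ.fieldRange = Subfield.relfinrank F ⊤ := by
    rw [RingHom.fieldRange_eq_map, Subfield.relfinrank_map_map]
  have hle : F.map Φ ≤ F := by
    have := map_le (L := L) (t := x ∘ eι) hk
    rwa [hr] at this
  have h1 := Subfield.relfinrank_mul_relfinrank hle (le_top : F ≤ ⊤)
  have h2 := Subfield.relfinrank_mul_relfinrank
    (show F.map Φ ≤ Φ.fieldRange by rintro _ ⟨y, -, rfl⟩; exact ⟨y, rfl⟩) (le_top : Φ.fieldRange ≤ ⊤)
  rw [hF] at h1
  rw [hmap, ← h1, mul_comm] at h2
  rw [← Subfield.relfinrank_top_right]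
  exact Nat.eq_of_mul_eq_mul_right (Nat.pos_of_ne_zero hd) h2

end Groth.Agent.Weil.FrobField
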