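import Groth.Agent.Weil.Geometry
import Groth.Agent.Weil.FrobField
import Mathlib.FieldTheory.Finite.Basic
import Mathlib.AlgebraicGeometry.Pullbacks
import Mathlib.AlgebraicGeometry.Morphisms.QuasiCompact

/-!
# The residue degree of the geometric Frobenius
-/

universe u v

noncomputable section

open AlgebraicGeometry CategoryTheory

namespace Groth.Agent.Weil

theorem cancel_field {M L : Type u} [Field M] [Field L] (ι : CommRingCat.of M ⟶ CommRingCat.of L)
    {Y : Scheme.{u}} {f₁ f₂ : Spec (CommRingCat.of M) ⟶ Y}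
    (h : Spec.map ι ≫ f₁ = Spec.map ι ≫ f₂) : f₁ = f₂ := by
  obtain ⟨⟨y₁, φ₁⟩, rfl⟩ := (Scheme.SpecToEquivOfField M Y).symm.surjective f₁
  obtain ⟨⟨y₂, φ₂⟩, rfl⟩ := (Scheme.SpecToEquivOfField M Y).symm.surjective f₂
  have h2 : (Scheme.SpecToEquivOfField L Y).symm ⟨y₁, φ₁ ≫ ι⟩ =
      (Scheme.SpecToEquivOfField L Y).symm ⟨y₂, φ₂ ≫ ι⟩ := by
    show Spec.map (φ₁ ≫ ι) ≫ _ = Spec.map (φ₂ ≫ ι) ≫ _
    rw [Spec.map_comp, Spec.map_comp, Category.assoc, Category.assoc]
    exact h
  obtain ⟨e, he⟩ := Scheme.SpecToEquivOfField_eq_iff.mp ((Scheme.SpecToEquivOfField L Y).symm.injective h2)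
  refine congrArg _ (Scheme.SpecToEquivOfField_eq_iff.mpr ⟨e, ?_⟩)
  ext a
  exact ι.hom.injective (RingHom.congr_fun (congrArg CommRingCat.Hom.hom he) a)

theorem surjective_of_comp_eq {L : Type u} [Field L] {Y : Scheme.{u}} {z : Y} {M : Type u} [Field M]
    (e : CommRingCat.of L ≅ Y.residueField z) (ι : CommRingCat.of M ⟶ Y.residueField z)
    (G : Spec (CommRingCat.of M) ⟶ Y) (h : Spec.map ι ≫ G = Y.fromSpecResidueField z) :
    Function.Surjective ι.hom := by
  obtain ⟨⟨y, φ⟩, rfl⟩ := (Scheme.SpecToEquivOfField M Y).symm.surjective G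
  have h2 : (Scheme.SpecToEquivOfField L Y).symm ⟨y, φ ≫ ι ≫ e.inv⟩ =
      (Scheme.SpecToEquivOfField L Y).symm ⟨z, e.inv⟩ := by
    show Spec.map (φ ≫ ι ≫ e.inv) ≫ _ = Spec.map e.inv ≫ _
    rw [Spec.map_comp, Spec.map_comp, Category.assoc, Category.assoc]
    exact congrArg _ h
  obtain ⟨hy, he⟩ := Scheme.SpecToEquivOfField_eq_iff.mp ((Scheme.SpecToEquivOfField L Y).symm.injective h2)
  rw [← Category.assoc, cancel_mono] at he
  change y = z at hy
  subst hy
  intro a
  refine ⟨φ.hom a, ?_⟩
  have := RingHom.congr_fun (congrArg CommRingCat.Hom.hom he) a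
  simpa using this

/-- The residue field of a point of a fibre product is generated by those of its images. -/
theorem residueField_closure_eq_top {P X Y S : Scheme.{u}} {π : P ⟶ X} {h : P ⟶ Y} {f : X ⟶ S}
    {g : Y ⟶ S} (hπ : IsPullback π h f g) (z : P) :
    Subfield.closure (Set.range (π.residueFieldMap z).hom ∪ Set.range (h.residueFieldMap z).hom) = ⊤ := by
  set M := Subfield.closure (Set.range (π.residueFieldMap z).hom ∪ Set.range (h.residueFieldMap z).hom)
  let ι : CommRingCat.of M ⟶ P.residueField z := CommRingCat.ofHom M.subtype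
  let a : X.residueField (π z) ⟶ CommRingCat.of M := CommRingCat.ofHom
    ((π.residueFieldMap z).hom.codRestrict M fun c => Subfield.subset_closure (Or.inl ⟨c, rfl⟩))
  let b : Y.residueField (h z) ⟶ CommRingCat.of M := CommRingCat.ofHom
    ((h.residueFieldMap z).hom.codRestrict M fun c => Subfield.subset_closure (Or.inr ⟨c, rfl⟩))
  have ha : Spec.map ι ≫ Spec.map a ≫ X.fromSpecResidueField (π z) = P.fromSpecResidueField z ≫ π := by
    rw [← Spec.map_comp_assoc, show a ≫ ι = π.residueFieldMap z from rfl,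
      Scheme.Hom.SpecMap_residueFieldMap_fromSpecResidueField]
  have hb : Spec.map ι ≫ Spec.map b ≫ Y.fromSpecResidueField (h z) = P.fromSpecResidueField z ≫ h := by
    rw [← Spec.map_comp_assoc, show b ≫ ι = h.residueFieldMap z from rfl,
      Scheme.Hom.SpecMap_residueFieldMap_fromSpecResidueField]
  have hc : (Spec.map a ≫ X.fromSpecResidueField (π z)) ≫ f =
      (Spec.map b ≫ Y.fromSpecResidueField (h z)) ≫ g :=
    cancel_field ι (L := P.residueField z) (by
      rw [← Category.assoc, ha, ← Category.assoc, hb, Category.assoc, Category.assoc, hπ.w])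
  have hG : Spec.map ι ≫ hπ.lift _ _ hc = P.fromSpecResidueField z :=
    hπ.hom_ext (by rw [Category.assoc, hπ.lift_fst, ha]) (by rw [Category.assoc, hπ.lift_snd, hb])
  have hs := surjective_of_comp_eq (L := P.residueField z) (Iso.refl _) ι _ hG
  rw [eq_top_iff]
  intro x _
  obtain ⟨w, rfl⟩ := hs x
  exact w.2

theorem range_residueFieldMap_congr {X Y : Scheme.{u}} {f g : X ⟶ Y} (e : f = g) (x : X) :
    Set.range (f.residueFieldMap x).hom = Set.range (g.residueFieldMap x).hom := by
  subst e; rfl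

theorem range_residueFieldMap_comp {X Y Z : Scheme.{u}} (f : X ⟶ Y) (g : Y ⟶ Z) (x : X) :
    Set.range ((f ≫ g).residueFieldMap x).hom =
      (f.residueFieldMap x).hom '' Set.range (g.residueFieldMap (f x)).hom := by
  rw [← Set.range_comp, Scheme.residueFieldMap_comp]
  rfl

/-- The `q`-th power endomorphism induces the `q`-th power on residue fields. -/
theorem range_residueFieldMap_powEndo {X : Scheme.{u}} (FX : X ⟶ X) (q : ℕ) (hFb : FX.base = 𝟙 _)
    (hle : ∀ U : X.Opens, U ≤ FX ⁻¹ᵁ U)
    (hFapp : ∀ (U : X.Opens) (s : Γ(X, U)), (FX.appLE U U (hle U)).hom s = s ^ q) (x : X) :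
    Set.range (FX.residueFieldMap x).hom = Set.range fun z : X.residueField x => z ^ q := by
  have hx : FX x = x := by
    show FX.base.hom x = x
    rw [hFb]; rfl
  have key : ∀ (U : X.Opens) (hxU : x ∈ U) (s : Γ(X, U)),
      (FX.residueFieldMap x).hom ((X.evaluation U (FX x) (hx.symm ▸ hxU)).hom s) =
        ((X.evaluation U x hxU).hom s) ^ q := by
    intro U hxU s
    have h1 := Scheme.evaluation_naturality_apply FX x (V := U) (hx.symm ▸ hxU) s
    have h2 : (X.evaluation (FX ⁻¹ᵁ U) x (show FX x ∈ U from hx.symm ▸ hxU)).hom ((FX.app U).hom s) =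
        (X.evaluation U x hxU).hom ((FX.appLE U U (hle U)).hom s) := by
      simp only [Scheme.evaluation, Scheme.Hom.appLE, CommRingCat.hom_comp, RingHom.comp_apply,
        TopCat.Presheaf.germ_res_apply]
    rw [hFapp, map_pow] at h2
    exact h1.trans h2
  ext z
  constructor
  · rintro ⟨w, rfl⟩
    obtain ⟨w, rfl⟩ := X.residue_surjective (FX x) w
    obtain ⟨U, hU, s, rfl⟩ := X.presheaf.exists_germ_eq w
    have hxU : x ∈ U := hx ▸ hU
    exact ⟨_, (key U hxU s).symm⟩
  · rintro ⟨w, rfl⟩
    obtain ⟨w, rfl⟩ := X.residue_surjective x w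
    obtain ⟨U, hU, s, rfl⟩ := X.presheaf.exists_germ_eq w
    exact ⟨_, key U hU s⟩

variable {k : Type u} [Field k]

theorem range_residueFieldMap_base {X : Scheme.{u}} (f : X ⟶ Spec (CommRingCat.of k)) (x : X) :
    Set.range (f.residueFieldMap x).hom = Set.range (structMap f x) := by
  have h := structMap_comp f (𝟙 (Spec (CommRingCat.of k))) x
  rw [Category.comp_id] at h
  rw [h, RingHom.coe_comp, Set.range_comp, (structMap_id_surjective (f x)).range_eq, Set.image_univ]

theorem essFiniteType_structMap {X : Scheme.{u}} (f : X ⟶ Spec (CommRingCat.of k))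
    [LocallyOfFiniteType f] (x : X) : (structMap f x).EssFiniteType := by
  have h := structMap_comp f (𝟙 (Spec (CommRingCat.of k))) x
  rw [Category.comp_id] at h
  rw [h]
  refine RingHom.EssFiniteType.comp ?_ ?_
  · exact (RingHom.FiniteType.of_surjective _ (structMap_id_surjective (f x))).essFiniteType
  · have h2 : (((Spec (CommRingCat.of k)).residue (f x)).hom).EssFiniteType :=
      (RingHom.FiniteType.of_surjective _ (Scheme.residue_surjective _ _)).essFiniteType
    have h3 : ((X.residue x).hom.comp (f.stalkMap x).hom).EssFiniteType :=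
      RingHom.EssFiniteType.comp (LocallyOfFiniteType.stalkMap f x)
        (RingHom.FiniteType.of_surjective _ (Scheme.residue_surjective _ _)).essFiniteType
    rw [← CommRingCat.hom_comp, ← Scheme.residue_residueFieldMap, CommRingCat.hom_comp] at h3
    exact RingHom.EssFiniteType.of_comp _ h3

variable [IsAlgClosed k] {K : Type v} [Field K] [CharZero K]

/-- The residue degree of the geometric Frobenius. -/
theorem residueDegree_frob {k₀ : Type u} [Field k₀] [Finite k₀] [Algebra k₀ k]
    {X : Scheme.{u}} (f : X ⟶ Spec (CommRingCat.of k₀)) (FX : X ⟶ X) (hFb : FX.base = 𝟙 _)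
    (hle : ∀ U : X.Opens, U ≤ FX ⁻¹ᵁ U)
    (hFapp : ∀ (U : X.Opens) (s : Γ(X, U)), (FX.appLE U U (hle U)).hom s = s ^ Nat.card k₀)
    (Xb : WeilCoh.Var k) (π : Xb.obj.left ⟶ X)
    (hπ : IsPullback π Xb.obj.hom f (Spec.map (CommRingCat.ofHom (algebraMap k₀ k))))
    (F : Xb ⟶ Xb) (hF : WeilCoh.sm F ≫ π = π ≫ FX) (x : Xb.obj.left) :
    (WeilCoh.sm F).residueDegree x = Nat.card k₀ ^ WeilCoh.pdim Xb.obj.left x := by
  haveI := lft Xb
  obtain ⟨p, hchar⟩ := CharP.exists k₀
  letI := Fintype.ofFinite k₀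
  obtain ⟨e, hp, hcard⟩ := FiniteField.card k₀ p
  haveI : Fact p.Prime := ⟨hp⟩
  rw [Nat.card_eq_fintype_card, hcard] at hFapp ⊢
  set L := Xb.obj.left.residueField x
  letI : Algebra k L := (structMap Xb.obj.hom x).toAlgebra
  haveI : CharP k p := charP_of_injective_algebraMap (algebraMap k₀ k).injective p
  haveI : CharP L p := charP_of_injective_algebraMap (algebraMap k L).injective p
  haveI : ExpChar L p := .prime hp
  haveI : Algebra.EssFiniteType k L := essFiniteType_structMap Xb.obj.hom x
  have hk : Function.Surjective fun c : k => c ^ p ^ (e : ℕ) :=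
    fun c => IsAlgClosed.exists_pow_nat_eq c (pow_pos hp.pos _)
  have htr : Algebra.trdeg k L = WeilCoh.pdim Xb.obj.left x := (pdim_eq Xb.obj.hom x).1
  have hrange : ((WeilCoh.sm F).residueFieldMap x).hom.fieldRange =
      (iterateFrobenius L p e).fieldRange := by
    set ψ := ((WeilCoh.sm F).residueFieldMap x).hom
    rw [RingHom.fieldRange_eq_map, ← residueField_closure_eq_top hπ (WeilCoh.sm F x),
      RingHom.map_field_closure, RingHom.fieldRange_eq_map, ← residueField_closure_eq_top hπ x,
      RingHom.map_field_closure, Set.image_union, Set.image_union, ← Set.range_comp, ← Set.range_comp,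
      ← Set.range_comp, ← Set.range_comp]
    have h1 : Set.range (ψ ∘ (π.residueFieldMap (WeilCoh.sm F x)).hom) =
        Set.range (iterateFrobenius L p e ∘ (π.residueFieldMap x).hom) := by
      rw [show Set.range (ψ ∘ (π.residueFieldMap (WeilCoh.sm F x)).hom) =
        Set.range ((WeilCoh.sm F ≫ π).residueFieldMap x).hom by rw [Scheme.residueFieldMap_comp]; rfl,
        range_residueFieldMap_congr hF, range_residueFieldMap_comp,
        range_residueFieldMap_powEndo FX _ hFb hle hFapp, ← Set.range_comp]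
      congr 1
      ext z
      simp [iterateFrobenius_def]
    have h2 : Set.range (ψ ∘ (Xb.obj.hom.residueFieldMap (WeilCoh.sm F x)).hom) =
        Set.range (iterateFrobenius L p e ∘ (Xb.obj.hom.residueFieldMap x).hom) := by
      rw [show Set.range (ψ ∘ (Xb.obj.hom.residueFieldMap (WeilCoh.sm F x)).hom) =
        Set.range ((WeilCoh.sm F ≫ Xb.obj.hom).residueFieldMap x).hom by rw [Scheme.residueFieldMap_comp]; rfl,
        range_residueFieldMap_congr (sm_hom F), Set.range_comp _ (Xb.obj.hom.residueFieldMap x).hom,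
        range_residueFieldMap_base, ← Set.range_comp]
      refine Set.Subset.antisymm ?_ ?_
      · rintro _ ⟨c, rfl⟩
        obtain ⟨d, rfl⟩ := hk c
        exact ⟨d, by simp [iterateFrobenius_def]⟩
      · rintro _ ⟨c, rfl⟩
        exact ⟨c ^ p ^ (e : ℕ), by simp [iterateFrobenius_def]⟩
    rw [h1, h2]
  unfold Scheme.Hom.residueDegree
  letI := ((WeilCoh.sm F).residueFieldMap x).hom.toAlgebra
  have hfin : Module.finrank (Xb.obj.left.residueField (WeilCoh.sm F x)) L =
      Module.finrank ((WeilCoh.sm F).residueFieldMap x).hom.fieldRange L :=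
    Algebra.finrank_eq_of_equiv_equiv ((WeilCoh.sm F).residueFieldMap x).hom.rangeRestrictFieldEquiv (RingEquiv.refl L) (by ext a; rfl)
  refine hfin.trans ?_
  rw [hrange]
  exact FrobField.finrank_fieldRange hk htr

end Groth.Agent.Weil
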