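import Groth.Agent.Weil.Formal
import Groth.Agent.Weil.Dim
import Mathlib.AlgebraicGeometry.Morphisms.ClosedImmersion
import Mathlib.AlgebraicGeometry.Morphisms.Smooth
import Mathlib.RingTheory.Length

/-!
# Geometric facts on the objects of a Weil cohomology theory
-/

universe u v

noncomputable section

open AlgebraicGeometry CategoryTheory

namespace Groth.Agent.Weil

variable {k : Type u} [Field k] [IsAlgClosed k]
variable {K : Type v} [Field K] [CharZero K] {T : WeilCoh.Theory k K}
variable {X Y : WeilCoh.Var k}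

theorem lft (X : WeilCoh.Var k) : LocallyOfFiniteType X.obj.hom := by
  haveI := X.property.1
  infer_instance

theorem irreducible (X : WeilCoh.Var k) : IrreducibleSpace ↥X.obj.left := X.property.2.2

theorem sm_hom (f : X ⟶ Y) : WeilCoh.sm f ≫ Y.obj.hom = X.obj.hom := Over.w f.hom

theorem pdim_le (X : WeilCoh.Var k) (ξ : X.obj.left) :
    WeilCoh.pdim X.obj.left ξ ≤ WeilCoh.dim X.obj.left := by
  haveI := lft X; haveI := irreducible X
  exact pdim_le_dim X.obj.hom ξ

theorem two_codim (X : WeilCoh.Var k) (ξ : X.obj.left) :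
    2 * (WeilCoh.codim X.obj.left ξ : ℤ) =
      2 * (WeilCoh.dim X.obj.left : ℤ) - 2 * (WeilCoh.pdim X.obj.left ξ : ℤ) := by
  have := pdim_le X ξ
  unfold WeilCoh.codim
  omega

theorem exists_closed_point (X : WeilCoh.Var k) : ∃ x : X.obj.left, IsClosed ({x} : Set X.obj.left) := by
  haveI := irreducible X; haveI := lft X
  haveI : JacobsonSpace X.obj.left := LocallyOfFiniteType.jacobsonSpace X.obj.hom
  obtain ⟨x, -, hx⟩ := nonempty_inter_closedPoints (X := ↥X.obj.left) (Z := Set.univ)
    Set.univ_nonempty isOpen_univ.isLocallyClosed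
  exact ⟨x, hx⟩

/-- A point object `Spec k` built from a closed point of `X`. -/
theorem isVar_pt (X : WeilCoh.Var k) : WeilCoh.IsVar k (Over.mk (𝟙 (Spec (CommRingCat.of k)))) := by
  refine ⟨inferInstanceAs (Smooth (𝟙 (Spec (CommRingCat.of k)))), ?_, ?_⟩
  · obtain ⟨x, hx⟩ := exists_closed_point X
    obtain ⟨n, i, hi, hi'⟩ := X.property.2.1
    haveI := lft X
    have h : (pointOfClosedPoint X.obj.hom x hx ≫ i) ≫ CohB1.ProjSpaceOver.toBase n _ = 𝟙 _ := by
      rw [Category.assoc, hi', pointOfClosedPoint_comp]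
    exact ⟨n, pointOfClosedPoint X.obj.hom x hx ≫ i,
      isClosedImmersion_of_comp_eq_id (Y := Spec (CommRingCat.of k)) _ _ h, h⟩
  · exact inferInstanceAs (IrreducibleSpace (PrimeSpectrum k))

/-- The point object. -/
def pt (X : WeilCoh.Var k) : WeilCoh.Var k := ⟨_, isVar_pt X⟩

theorem dim_eq_zero_of_subsingleton (Z : Scheme.{u}) [Subsingleton ↥Z] [Nonempty ↥Z] :
    WeilCoh.dim Z = 0 := by
  haveI : IrreducibleSpace ↥Z := { toPreirreducibleSpace := ⟨Set.subsingleton_univ.isPreirreducible⟩, toNonempty := inferInstance }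
  rw [← pdim_genericPoint Z]
  exact pdim_of_isClosed (by
    rw [show ({genericPoint Z} : Set Z) = Set.univ from Set.eq_univ_of_forall fun z => Subsingleton.elim z _]
    exact isClosed_univ)

instance subsingleton_pt (X : WeilCoh.Var k) : Subsingleton ↥(pt X).obj.left :=
  inferInstanceAs (Subsingleton (PrimeSpectrum k))

instance nonempty_pt (X : WeilCoh.Var k) : Nonempty ↥(pt X).obj.left :=
  inferInstanceAs (Nonempty (PrimeSpectrum k))

theorem dim_pt (X : WeilCoh.Var k) : WeilCoh.dim (pt X).obj.left = 0 :=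
  dim_eq_zero_of_subsingleton _

theorem pdim_pt (X : WeilCoh.Var k) (w : (pt X).obj.left) : WeilCoh.pdim (pt X).obj.left w = 0 :=
  Nat.le_zero.mp ((pdim_le (pt X) w).trans (dim_pt X).le)

/-- The structure morphism to the point. -/
def toPt (X : WeilCoh.Var k) : X ⟶ pt X :=
  ObjectProperty.homMk (Over.homMk X.obj.hom (by exact Category.comp_id _))

/-- The morphism from the point given by a closed point. -/
def ofPt (x : X.obj.left) (hx : IsClosed ({x} : Set X.obj.left)) : pt X ⟶ X :=
  haveI := lft X
  ObjectProperty.homMk (Over.homMk (pointOfClosedPoint X.obj.hom x hx)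
    (pointOfClosedPoint_comp X.obj.hom x hx))

theorem residueDegree_comp {A B C : Scheme.{u}} (f : A ⟶ B) (g : B ⟶ C) (x : A) :
    (f ≫ g).residueDegree x = g.residueDegree (f x) * f.residueDegree x := by
  letI := (f.residueFieldMap x).hom.toAlgebra
  letI := (g.residueFieldMap (f x)).hom.toAlgebra
  letI : Algebra (C.residueField (g (f x))) (A.residueField x) :=
    ((f ≫ g).residueFieldMap x).hom.toAlgebra
  haveI : IsScalarTower (C.residueField (g (f x))) (B.residueField (f x)) (A.residueField x) :=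
    IsScalarTower.of_algebraMap_eq' (by
      show ((f ≫ g).residueFieldMap x).hom = _
      rw [Scheme.residueFieldMap_comp]
      rfl)
  exact (Module.finrank_mul_finrank (C.residueField (g (f x))) (B.residueField (f x))
    (A.residueField x)).symm

theorem residueDegree_eq_one_of_comp {A B C : Scheme.{u}} (f : A ⟶ B) (g : B ⟶ C) (x : A)
    (h : (f ≫ g).residueDegree x = 1) : f.residueDegree x = 1 :=
  Nat.eq_one_of_mul_eq_one_left ((residueDegree_comp f g x).symm.trans h)

theorem residueDegree_hom_of_isClosed (x : X.obj.left) (hx : IsClosed ({x} : Set X.obj.left)) :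
    X.obj.hom.residueDegree x = 1 := by
  haveI := lft X
  let a : Spec (CommRingCat.of k) := IsLocalRing.closedPoint k
  have h : (pointOfClosedPoint X.obj.hom x hx ≫ X.obj.hom).residueDegree a = 1 := by
    rw [pointOfClosedPoint_comp]; exact Scheme.Hom.residueDegree_id _
  rw [residueDegree_comp] at h
  have := Nat.eq_one_of_mul_eq_one_right h
  rwa [pointOfClosedPoint_apply] at this

theorem pdim_sm_of_residueDegree_ne_zero (f : X ⟶ Y) (ξ : X.obj.left)
    (h : (WeilCoh.sm f).residueDegree ξ ≠ 0) :
    WeilCoh.pdim X.obj.left ξ = WeilCoh.pdim Y.obj.left (WeilCoh.sm f ξ) := by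
  haveI := lft Y
  haveI : LocallyOfFiniteType (WeilCoh.sm f ≫ Y.obj.hom) := by rw [sm_hom f]; exact lft X
  exact pdim_eq_of_residueDegree_ne_zero (WeilCoh.sm f) Y.obj.hom ξ h

variable (T)

/-- The push-forward identity for classes, for classes of arbitrary degree. -/
theorem cl_push_all (f : X ⟶ Y) (ξ : X.obj.left) (a : T.H Y) :
    T.tr X (T.cl X ξ * T.pull f a) =
      ((WeilCoh.sm f).residueDegree ξ : K) * T.tr Y (T.cl Y (WeilCoh.sm f ξ) * a) := by
  induction a using induction_gr T with
  | hom j x hx =>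
    by_cases hj : j = 2 * (WeilCoh.pdim X.obj.left ξ : ℤ)
    · subst hj; exact T.cl_push f ξ x hx
    · rw [tr_mul_eq_zero T (T.cl_mem X ξ) (T.pull_mem f j x hx) (by rw [two_codim]; omega)]
      by_cases hd : (WeilCoh.sm f).residueDegree ξ = 0
      · simp [hd]
      · rw [tr_mul_eq_zero T (T.cl_mem Y _) hx
          (by rw [two_codim, ← pdim_sm_of_residueDegree_ne_zero f ξ hd]; omega), mul_zero]
  | add x y hx hy => simp only [map_add, mul_add, hx, hy]

theorem cl_pt (X : WeilCoh.Var k) (w : (pt X).obj.left) : T.cl (pt X) w = 1 :=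
  (T.point (pt X) (dim_pt X)).1 w

theorem tr_cl_closed (x : X.obj.left) (hx : IsClosed ({x} : Set X.obj.left)) :
    T.tr X (T.cl X x) = 1 := by
  have h := cl_push_all T (toPt X) x 1
  rw [map_one, mul_one, mul_one, cl_pt, (T.point (pt X) (dim_pt X)).2, mul_one] at h
  rw [h, show (WeilCoh.sm (toPt X)).residueDegree x = 1 from residueDegree_hom_of_isClosed x hx,
    Nat.cast_one]

/-- The class of the whole variety is `1`. -/
theorem cl_generic (X : WeilCoh.Var k) [IrreducibleSpace ↥X.obj.left] :
    T.cl X (genericPoint ↥X.obj.left) = 1 := by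
  set η := genericPoint ↥X.obj.left
  have hmem := T.cl_mem X η
  rw [two_codim, pdim_genericPoint, sub_self] at hmem
  obtain ⟨c, hc⟩ := exists_eq_algebraMap T hmem
  obtain ⟨x, hx⟩ := exists_closed_point X
  set g := ofPt x hx
  have huniv : (WeilCoh.sm g) ⁻¹' closure ({η} : Set X.obj.left) = Set.univ := by
    rw [genericPoint_closure]; rfl
  have hcomp : ∀ w, WeilCoh.IsCompPt ((WeilCoh.sm g) ⁻¹' closure ({η} : Set X.obj.left)) w :=
    fun w => ⟨huniv ▸ Set.mem_univ w, fun w' _ _ => Subsingleton.elim _ _⟩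
  have hmult : ∀ (w : (pt X).obj.left)
      (h : WeilCoh.sm g w ∈ closure ({η} : Set X.obj.left)),
      WeilCoh.preimMult (WeilCoh.sm g) η w h = 1 := by
    intro w h
    haveI hwp : (PrimeSpectrum.asIdeal (R := k) w).IsPrime := PrimeSpectrum.isPrime (R := k) w
    have hF : IsField ((pt X).obj.left.presheaf.stalk w) := by
      let e : (Spec (CommRingCat.of k)).presheaf.stalk w ≅
          CommRingCat.of (Localization.AtPrime (PrimeSpectrum.asIdeal (R := k) w)) :=
        Spec.stalkIso (CommRingCat.of k) w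
      refine e.commRingCatIsoToRingEquiv.toMulEquiv.isField ?_
      have hbot : PrimeSpectrum.asIdeal (R := k) w = ⊥ :=
        (Ideal.eq_bot_or_top _).resolve_right (PrimeSpectrum.isPrime (R := k) w).ne_top
      have hle : (PrimeSpectrum.asIdeal (R := k) w).primeCompl ≤ nonZeroDivisors k := fun r hr =>
        mem_nonZeroDivisors_of_ne_zero fun h0 => hr (by rw [h0]; exact zero_mem _)
      exact MulEquiv.isField (Field.toIsField k)
        (RingEquiv.ofBijective (algebraMap k (Localization.AtPrime (PrimeSpectrum.asIdeal (R := k) w)))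
          (IsField.localization_map_bijective (M := (PrimeSpectrum.asIdeal (R := k) w).primeCompl)
            (fun h0 => h0 (zero_mem _)) (Field.toIsField k))).symm.toMulEquiv
    have hI : Ideal.map ((WeilCoh.sm g).stalkMap w).hom
        (RingHom.ker (Cyc.specMap (WeilCoh.sm g w) η (specializes_iff_mem_closure.mpr h))) = ⊥ := by
      refine le_bot_iff.mp (Ideal.map_le_iff_le_comap.mpr fun s hs => ?_)
      rw [Ideal.mem_comap, Ideal.mem_bot]
      by_contra hne
      have hu : IsUnit (((WeilCoh.sm g).stalkMap w).hom s) := by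
        obtain ⟨b, hb⟩ := hF.mul_inv_cancel hne
        exact IsUnit.of_mul_eq_one _ hb
      have hus : IsUnit s := IsUnit.of_map ((WeilCoh.sm g).stalkMap w).hom s hu
      exact RingHom.ker_ne_top _ (Ideal.eq_top_of_isUnit_mem _ hs hus)
    unfold WeilCoh.preimMult
    rw [hI, (Submodule.quotEquivOfEqBot (⊥ : Ideal ((pt X).obj.left.presheaf.stalk w)) rfl).length_eq]
    letI := hF.toField
    haveI : IsSimpleModule ((pt X).obj.left.presheaf.stalk w) ((pt X).obj.left.presheaf.stalk w) :=
      inferInstance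
    rw [Module.length_eq_one]; rfl
  have hpull := T.cl_pull g η (fun w _ => by rw [pdim_pt, dim_pt, pdim_genericPoint]; simp)
    (Or.inr fun w hw => hmult w hw.1)
  obtain ⟨w₀⟩ : Nonempty ↥(pt X).obj.left := inferInstance
  rw [finsum_eq_single _ ⟨w₀, hcomp w₀⟩ fun w hw => absurd (Subtype.ext (Subsingleton.elim _ _)) hw,
    hmult w₀, Nat.cast_one, one_smul, cl_pt, hc, AlgHom.commutes] at hpull
  haveI : Nontrivial (T.H (pt X)) := ⟨⟨1, 0, one_ne_zero' T (pt X)⟩⟩
  rw [hc, show c = 1 from (algebraMap K (T.H (pt X))).injective (hpull.trans (map_one _).symm)]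
  exact map_one _

end Groth.Agent.Weil
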