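import Groth.Prelude.Def_WeilCoh
import Mathlib.LinearAlgebra.Dual.Lemmas
import Mathlib.LinearAlgebra.Dimension.Free
import Mathlib.Algebra.DirectSum.Decomposition

/-!
# Formal consequences of the axioms of a Weil cohomology theory
-/

universe u v w

noncomputable section

open AlgebraicGeometry CategoryTheory TensorProduct

namespace Groth.Agent.Weil

variable {k : Type u} [Field k] {P : ObjectProperty (Over (Spec (CommRingCat.of k)))}
variable {K : Type v} [Field K] (T : WeilCoh.TheoryOn.{u, v, w} k P K)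
variable {X Y Z Q : P.FullSubcategory}

/-- Every class is a sum of homogeneous ones. -/
theorem induction_gr {motive : T.H X → Prop} (a : T.H X)
    (hom : ∀ i, ∀ x ∈ T.gr X i, motive x) (add : ∀ x y, motive x → motive y → motive (x + y)) :
    motive a := by
  have h : a ∈ ⨆ i, T.gr X i := (T.decomp X).submodule_iSup_eq_top ▸ Submodule.mem_top
  exact Submodule.iSup_induction (T.gr X) (motive := motive) h hom (hom 0 0 (zero_mem _)) add

theorem sign_even {i : ℤ} (j : ℤ) (hi : Even i) : (-1 : K) ^ (i.natAbs * j.natAbs) = 1 :=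
  Even.neg_one_pow (((Int.natAbs_even).mpr hi).mul_right _)

/-- Classes of even degree are central. -/
theorem commute_of_even {i : ℤ} (hi : Even i) {a : T.H X} (ha : a ∈ T.gr X i) (b : T.H X) :
    a * b = b * a := by
  induction b using induction_gr T with
  | hom j x hx => rw [T.gradedComm X i j a x ha hx, sign_even j hi, one_smul]
  | add x y hx hy => rw [mul_add, add_mul, hx, hy]

theorem cl_commute (ξ : X.obj.left) (b : T.H X) : T.cl X ξ * b = b * T.cl X ξ :=
  commute_of_even T (even_two_mul _) (T.cl_mem X ξ) b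

theorem tr_mul_eq_zero {i j : ℤ} {a b : T.H X} (ha : a ∈ T.gr X i) (hb : b ∈ T.gr X j)
    (h : i + j ≠ 2 * (WeilCoh.dim X.obj.left : ℤ)) : T.tr X (a * b) = 0 :=
  T.tr_vanish X (i + j) _ (SetLike.mul_mem_graded ha hb) h

/-- The trace pairing on the total ring is nondegenerate. -/
theorem eq_zero_of_tr {x : T.H X} (h : ∀ b, T.tr X (x * b) = 0) : x = 0 := by
  classical
  obtain ⟨v, rfl⟩ := (T.decomp X).2 x
  suffices ∀ i, v i = 0 by rw [DFinsupp.ext (g := 0) this]; exact map_zero _
  intro i
  have hd : i + (2 * (WeilCoh.dim X.obj.left : ℤ) - i) = 2 * (WeilCoh.dim X.obj.left : ℤ) :=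
    add_sub_cancel _ _
  haveI := T.duality X i _ hd
  refine (LinearMap.IsPerfPair.bijective_left
    (p := WeilCoh.pairing K (T.gr X i) (T.gr X (2 * (WeilCoh.dim X.obj.left : ℤ) - i)) (T.tr X))).1 ?_
  rw [map_zero]
  ext b
  have hb := h b.1
  rw [DirectSum.coeAddMonoidHom_eq_dfinsuppSum, DFinsupp.sum, Finset.sum_mul, map_sum,
    Finset.sum_eq_single i] at hb
  · simpa [WeilCoh.pairing] using hb
  · intro j _ hj
    exact tr_mul_eq_zero T (v j).2 b.2 (by omega)
  · intro hi
    simp [DFinsupp.notMem_support_iff.mp hi]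

theorem ext_tr {x y : T.H X} (h : ∀ b, T.tr X (x * b) = T.tr X (y * b)) : x = y :=
  sub_eq_zero.mp <| eq_zero_of_tr T fun b => by rw [sub_mul, map_sub, h b, sub_self]

/-- The projection formula characterising the push-forward, tested on all classes. -/
theorem tr_push (f : X ⟶ Y) (i : ℤ) (a : T.gr X i) (b : T.H Y) :
    T.tr Y ((T.push f i a : T.H Y) * b) = T.tr X ((a : T.H X) * T.pull f b) := by
  induction b using induction_gr T with
  | hom j x hx =>
    by_cases h : j = 2 * (WeilCoh.dim X.obj.left : ℤ) - i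
    · subst h
      haveI := T.duality Y (i + 2 * (WeilCoh.dim Y.obj.left : ℤ) - 2 * (WeilCoh.dim X.obj.left : ℤ))
        (2 * (WeilCoh.dim X.obj.left : ℤ) - i) (by omega)
      have h1 := LinearMap.apply_symm_toPerfPair_self
        (WeilCoh.pairing K
          (T.gr Y (i + 2 * (WeilCoh.dim Y.obj.left : ℤ) - 2 * (WeilCoh.dim X.obj.left : ℤ)))
          (T.gr Y (2 * (WeilCoh.dim X.obj.left : ℤ) - i)) (T.tr Y)) (T.pushFunctional f i a)
      have h2 := LinearMap.congr_fun h1 ⟨x, hx⟩
      exact h2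
    · rw [tr_mul_eq_zero T (T.push f i a).2 hx (by omega),
        tr_mul_eq_zero T a.2 (T.pull_mem f j x hx) (by omega)]
  | add x y hx hy => simp only [mul_add, map_add, hx, hy]

theorem exists_top (X : P.FullSubcategory) :
    ∃ a : T.H X, a ∈ T.gr X (2 * (WeilCoh.dim X.obj.left : ℤ)) ∧ T.tr X a = 1 := by
  obtain ⟨a, ha⟩ := (T.tr_bijective X).2 1
  exact ⟨a.1, a.2, ha⟩

theorem eq_of_tr_eq {a b : T.H X} (ha : a ∈ T.gr X (2 * (WeilCoh.dim X.obj.left : ℤ)))
    (hb : b ∈ T.gr X (2 * (WeilCoh.dim X.obj.left : ℤ))) (h : T.tr X a = T.tr X b) : a = b :=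
  congrArg Subtype.val ((T.tr_bijective X).1 (a₁ := ⟨a, ha⟩) (a₂ := ⟨b, hb⟩) h)

include T in
/-- dim (X × Y) = dim X + dim Y, from the axioms. -/
theorem dim_prod (p : Q ⟶ X) (q : Q ⟶ Y) (hQ : WeilCoh.IsProd p q) :
    WeilCoh.dim Q.obj.left = WeilCoh.dim X.obj.left + WeilCoh.dim Y.obj.left := by
  obtain ⟨a, ha, ha'⟩ := exists_top T X
  obtain ⟨b, hb, hb'⟩ := exists_top T Y
  by_contra h
  have h1 := T.tr_prod p q hQ a b ha hb
  rw [tr_mul_eq_zero T (T.pull_mem p _ a ha) (T.pull_mem q _ b hb) (by omega), ha', hb', mul_one] at h1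
  exact zero_ne_one h1

theorem tr_pull_mul_pull (p : Q ⟶ X) (q : Q ⟶ Y) (hQ : WeilCoh.IsProd p q) (a : T.H X) (b : T.H Y) :
    T.tr Q (T.pull p a * T.pull q b) = T.tr X a * T.tr Y b := by
  have hdim := dim_prod T p q hQ
  induction a using induction_gr T with
  | hom i x hx =>
    induction b using induction_gr T with
    | hom j y hy =>
      by_cases hi : i = 2 * (WeilCoh.dim X.obj.left : ℤ)
      · by_cases hj : j = 2 * (WeilCoh.dim Y.obj.left : ℤ)
        · subst hi hj; exact T.tr_prod p q hQ x y hx hy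
        · rw [tr_mul_eq_zero T (T.pull_mem p i x hx) (T.pull_mem q j y hy) (by omega),
            T.tr_vanish Y j y hy hj, mul_zero]
      · rw [T.tr_vanish X i x hx hi, zero_mul]
        by_cases hij : i + j = 2 * (WeilCoh.dim Q.obj.left : ℤ)
        · rcases lt_or_gt_of_ne hi with h | h
          · have : y = 0 := by
              simpa [T.vanish Y j (Or.inr (by omega))] using hy
            simp [this]
          · have : x = 0 := by
              simpa [T.vanish X i (Or.inr (by omega))] using hx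
            simp [this]
        · exact tr_mul_eq_zero T (T.pull_mem p i x hx) (T.pull_mem q j y hy) hij
    | add y y' hy hy' => simp only [map_add, mul_add, hy, hy']
  | add x x' hx hx' => simp only [map_add, add_mul, hx, hx']

theorem tr_pull_mul_pull' (p : Q ⟶ X) (q : Q ⟶ Y) (hQ : WeilCoh.IsProd p q) (a : T.H X) (b : T.H Y) :
    T.tr Q (T.pull q b * T.pull p a) = T.tr X a * T.tr Y b := by
  induction b using induction_gr T with
  | hom j y hy =>
    induction a using induction_gr T with
    | hom i x hx =>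
      rw [T.gradedComm Q j i _ _ (T.pull_mem q j y hy) (T.pull_mem p i x hx), map_smul,
        tr_pull_mul_pull T p q hQ, smul_eq_mul]
      by_cases hj : j = 2 * (WeilCoh.dim Y.obj.left : ℤ)
      · rw [sign_even i (hj ▸ even_two_mul _), one_mul]
      · rw [T.tr_vanish Y j y hy hj, mul_zero, mul_zero]
    | add x x' hx hx' => simp only [map_add, mul_add, add_mul, hx, hx']
  | add y y' hy hy' => simp only [map_add, mul_add, add_mul, hy, hy']

/-- Künneth: it is enough to check a linear identity on products of pull-backs. -/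
theorem kunneth_induction (p : Q ⟶ X) (q : Q ⟶ Y) (hQ : WeilCoh.IsProd p q) {motive : T.H Q → Prop}
    (z : T.H Q) (mul : ∀ a b, motive (T.pull p a * T.pull q b))
    (add : ∀ x y, motive x → motive y → motive (x + y)) : motive z := by
  obtain ⟨t, rfl⟩ := (T.kunneth p q hQ).2 z
  induction t using TensorProduct.induction_on with
  | zero => simpa using mul 0 0
  | tmul a b => simpa [WeilCoh.kunnethMap] using mul a b
  | add x y hx hy => rw [map_add]; exact add _ _ hx hy

theorem ext_tr_prod (p : Q ⟶ X) (q : Q ⟶ Y) (hQ : WeilCoh.IsProd p q) {u v : T.H Q}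
    (h : ∀ a b, T.tr Q (u * (T.pull p a * T.pull q b)) = T.tr Q (v * (T.pull p a * T.pull q b))) :
    u = v := by
  refine ext_tr T fun z => ?_
  induction z using kunneth_induction T p q hQ with
  | mul a b => exact h a b
  | add x y hx hy => simp only [mul_add, map_add, hx, hy]

theorem one_ne_zero' (X : P.FullSubcategory) : (1 : T.H X) ≠ 0 := by
  intro h
  obtain ⟨a, -, ha⟩ := exists_top T X
  rw [show a = 0 by rw [← mul_one a, h, mul_zero], map_zero] at ha
  exact zero_ne_one ha

theorem finrank_gr_top (X : P.FullSubcategory) :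
    Module.finrank K (T.gr X (2 * (WeilCoh.dim X.obj.left : ℤ))) = 1 := by
  rw [(LinearEquiv.ofBijective _ (T.tr_bijective X)).finrank_eq, Module.finrank_self]

theorem finrank_gr_compl (X : P.FullSubcategory) {i j : ℤ}
    (h : i + j = 2 * (WeilCoh.dim X.obj.left : ℤ)) :
    Module.finrank K (T.gr X i) = Module.finrank K (T.gr X j) := by
  haveI := T.duality X i j h
  exact Module.finrank_of_isPerfPair (WeilCoh.pairing K (T.gr X i) (T.gr X j) (T.tr X))

theorem smul_one_bijective (X : P.FullSubcategory) :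
    Function.Bijective (fun c : K =>
      (⟨c • (1 : T.H X), (T.gr X 0).smul_mem c (SetLike.one_mem_graded (T.gr X))⟩ : T.gr X 0)) := by
  have h1 : Module.finrank K (T.gr X 0) = 1 :=
    (finrank_gr_compl T X (zero_add _)).trans (finrank_gr_top T X)
  have hne : (⟨1, SetLike.one_mem_graded (T.gr X)⟩ : T.gr X 0) ≠ 0 := fun h =>
    one_ne_zero' T X (congrArg Subtype.val h)
  refine ⟨fun a b h => smul_left_injective K (one_ne_zero' T X) (congrArg Subtype.val h), fun x => ?_⟩
  obtain ⟨c, hc⟩ := (finrank_eq_one_iff_of_nonzero' _ hne).mp h1 x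
  exact ⟨c, hc⟩

theorem exists_eq_algebraMap {a : T.H X} (ha : a ∈ T.gr X 0) : ∃ c : K, a = algebraMap K (T.H X) c := by
  obtain ⟨c, hc⟩ := (smul_one_bijective T X).2 ⟨a, ha⟩
  exact ⟨c, by rw [Algebra.algebraMap_eq_smul_one]; exact (congrArg Subtype.val hc).symm⟩

theorem push_mul_pull (f : X ⟶ Y) (i j : ℤ) (a : T.gr X i) (c : T.gr Y j) :
    (T.push f (i + j) ⟨(a : T.H X) * T.pull f c, SetLike.mul_mem_graded a.2 (T.pull_mem f j c c.2)⟩ : T.H Y) =
      (T.push f i a : T.H Y) * c := by
  refine ext_tr T fun b => ?_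
  rw [tr_push T f (i + j), mul_assoc ((T.push f i a : T.H Y)), tr_push T f i,
    map_mul (T.pull f), mul_assoc]

theorem tr_push_comp (f : X ⟶ Y) (g : Y ⟶ Z) (i : ℤ) (a : T.gr X i) :
    (T.push (f ≫ g) i a : T.H Z) =
      (T.push g (i + 2 * (WeilCoh.dim Y.obj.left : ℤ) - 2 * (WeilCoh.dim X.obj.left : ℤ))
        (T.push f i a) : T.H Z) := by
  refine ext_tr T fun b => ?_
  rw [tr_push T (f ≫ g), tr_push T g, tr_push T f, T.pull_comp]
  rfl

theorem push_fst_pull_snd (p : Q ⟶ X) (q : Q ⟶ Y) (hQ : WeilCoh.IsProd p q) (i : ℤ) (a : T.gr Y i) :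
    (T.push p i ⟨T.pull q a, T.pull_mem q i a a.2⟩ : T.H X) = algebraMap K (T.H X) (T.tr Y a) := by
  refine ext_tr T fun b => ?_
  rw [tr_push T p, ← Algebra.smul_def, map_smul, smul_eq_mul, tr_pull_mul_pull' T p q hQ, mul_comm]

end Groth.Agent.Weil
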