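import Groth.Agent.Weil.Formal
import Mathlib.LinearAlgebra.Trace
import Mathlib.LinearAlgebra.Dual.Lemmas
import Mathlib.LinearAlgebra.Eigenspace.Minpoly
import Mathlib.Data.Int.Interval

/-!
# The total ring as a finite dimensional space, correspondences and their traces
-/

universe u v w

noncomputable section

open AlgebraicGeometry CategoryTheory TensorProduct
open scoped Classical

namespace Groth.Agent.Weil

variable {k : Type u} [Field k] {P : ObjectProperty (Over (Spec (CommRingCat.of k)))}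
variable {K : Type v} [Field K] (T : WeilCoh.TheoryOn.{u, v, w} k P K)
variable {X Y Z Q : P.FullSubcategory}

/-- The decomposition of the total ring. -/
def decompEquiv (X : P.FullSubcategory) : (DirectSum ℤ fun i => T.gr X i) ≃ₗ[K] T.H X :=
  LinearEquiv.ofBijective (DirectSum.coeLinearMap (T.gr X)) (T.decomp X)

/-- The component of degree `i`. -/
def proj (X : P.FullSubcategory) (i : ℤ) : T.H X →ₗ[K] T.gr X i :=
  DirectSum.component K ℤ (fun i => T.gr X i) i ∘ₗ (decompEquiv T X).symm.toLinearMap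

theorem decompEquiv_symm_of_mem {i : ℤ} {a : T.H X} (ha : a ∈ T.gr X i) :
    (decompEquiv T X).symm a = DirectSum.of (fun i => T.gr X i) i ⟨a, ha⟩ := by
  rw [LinearEquiv.symm_apply_eq]
  exact (DirectSum.coeLinearMap_of (T.gr X) i ⟨a, ha⟩).symm

theorem proj_of_mem {i : ℤ} {a : T.H X} (ha : a ∈ T.gr X i) :
    proj T X i a = ⟨a, ha⟩ := by
  rw [proj, LinearMap.comp_apply, LinearEquiv.coe_coe, decompEquiv_symm_of_mem T ha,
    ← DirectSum.lof_eq_of K, DirectSum.component.lof_self]

theorem proj_coe {i : ℤ} (a : T.gr X i) : proj T X i (a : T.H X) = a := proj_of_mem T a.2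

theorem proj_of_mem_ne {i j : ℤ} {a : T.H X} (ha : a ∈ T.gr X i) (h : i ≠ j) :
    proj T X j a = 0 := by
  rw [proj, LinearMap.comp_apply, LinearEquiv.coe_coe, decompEquiv_symm_of_mem T ha,
    ← DirectSum.apply_eq_component, DirectSum.of_eq_of_ne _ _ _ h.symm]

theorem gr_eq_bot_of_notMem {i : ℤ}
    (h : i ∉ Finset.Icc (0 : ℤ) (2 * (WeilCoh.dim X.obj.left : ℤ))) : T.gr X i = ⊥ :=
  T.vanish X i (by simp at h; omega)

theorem finite_H (X : P.FullSubcategory) : Module.Finite K (T.H X) := by
  let s := Finset.Icc (0 : ℤ) (2 * (WeilCoh.dim X.obj.left : ℤ))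
  let f : (∀ i : s, T.gr X i) →ₗ[K] T.H X := ∑ i : s, (T.gr X i).subtype ∘ₗ LinearMap.proj i
  refine Module.Finite.of_surjective f fun a => ?_
  induction a using induction_gr T with
  | hom i x hx =>
    by_cases h : i ∈ s
    · refine ⟨Pi.single ⟨i, h⟩ ⟨x, hx⟩, ?_⟩
      simp only [f, LinearMap.sum_apply, LinearMap.comp_apply, LinearMap.proj_apply, Submodule.subtype_apply]
      rw [Finset.sum_eq_single ⟨i, h⟩ (fun j _ hj => by simp [Pi.single_eq_of_ne hj]) (by simp)]
      simp
    · rw [gr_eq_bot_of_notMem T h, Submodule.mem_bot] at hx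
      exact ⟨0, by rw [map_zero, hx]⟩
  | add x y hx hy =>
    obtain ⟨a, rfl⟩ := hx; obtain ⟨b, rfl⟩ := hy
    exact ⟨a + b, map_add f a b⟩

/-- The trace form on the total ring. -/
def trForm (X : P.FullSubcategory) : T.H X →ₗ[K] Module.Dual K (T.H X) :=
  (LinearMap.mul K (T.H X)).compr₂ (T.tr X)

theorem trForm_bijective (X : P.FullSubcategory) : Function.Bijective (trForm T X) := by
  haveI := finite_H T X
  have hinj : Function.Injective (trForm T X) := fun x y h => ext_tr T fun b => LinearMap.congr_fun h b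
  exact ⟨hinj, (LinearMap.injective_iff_surjective_of_finrank_eq_finrank
    Subspace.dual_finrank_eq.symm).mp hinj⟩

/-- The inverse of the trace form. -/
def ofDual (X : P.FullSubcategory) : Module.Dual K (T.H X) ≃ₗ[K] T.H X :=
  (LinearEquiv.ofBijective _ (trForm_bijective T X)).symm

theorem tr_ofDual_mul (φ : Module.Dual K (T.H X)) (b : T.H X) :
    T.tr X (ofDual T X φ * b) = φ b := by
  have := (LinearEquiv.ofBijective _ (trForm_bijective T X)).apply_symm_apply φ
  exact LinearMap.congr_fun this b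

/-- Push-forward on the total ring. -/
def pushAll (f : X ⟶ Y) : T.H X →ₗ[K] T.H Y :=
  (ofDual T Y).toLinearMap ∘ₗ (T.pull f).toLinearMap.dualMap ∘ₗ trForm T X

theorem tr_pushAll (f : X ⟶ Y) (a : T.H X) (b : T.H Y) :
    T.tr Y (pushAll T f a * b) = T.tr X (a * T.pull f b) :=
  tr_ofDual_mul T _ b

theorem push_eq_pushAll (f : X ⟶ Y) (i : ℤ) (a : T.gr X i) :
    (T.push f i a : T.H Y) = pushAll T f a :=
  ext_tr T fun b => by rw [tr_push T f i a b, tr_pushAll]

/-- The action of a class on `X × Y` as a correspondence. -/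
def act {W : P.FullSubcategory} (p : W ⟶ X) (q : W ⟶ Y) : T.H W →ₗ[K] T.H X →ₗ[K] T.H Y :=
  (((LinearMap.mul K (T.H W)).comp (T.pull p).toLinearMap).flip).compr₂ (pushAll T q)

theorem act_apply (p : Q ⟶ X) (q : Q ⟶ Y) (z : T.H Q) (x : T.H X) :
    act T p q z x = pushAll T q (T.pull p x * z) := rfl

theorem tr_act (p : Q ⟶ X) (q : Q ⟶ Y) (z : T.H Q) (x : T.H X) (b : T.H Y) :
    T.tr Y (act T p q z x * b) = T.tr Q (T.pull p x * z * T.pull q b) :=
  tr_pushAll T q _ b

theorem act_pull_mul_pull (p : Q ⟶ X) (q : Q ⟶ Y) (hQ : WeilCoh.IsProd p q) (a : T.H X) (c : T.H Y)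
    (x : T.H X) : act T p q (T.pull p a * T.pull q c) x = T.tr X (x * a) • c := by
  refine ext_tr T fun b => ?_
  rw [tr_act, ← mul_assoc, ← map_mul (T.pull p), mul_assoc, ← map_mul (T.pull q),
    tr_pull_mul_pull T p q hQ, smul_mul_assoc, map_smul, smul_eq_mul]

/-- The trace of an endomorphism of the total ring on the degree `i` part. -/
def trI (X : P.FullSubcategory) (i : ℤ) : (T.H X →ₗ[K] T.H X) →ₗ[K] K :=
  LinearMap.trace K (T.gr X i) ∘ₗ
    (LinearMap.lcomp K _ (T.gr X i).subtype) ∘ₗ (LinearMap.llcomp K (T.H X) (T.H X) (T.gr X i) (proj T X i))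

theorem trI_eq (i : ℤ) (L : T.H X →ₗ[K] T.H X) :
    trI T X i L = LinearMap.trace K (T.gr X i) (proj T X i ∘ₗ L ∘ₗ (T.gr X i).subtype) := rfl

theorem trI_smulRight (i : ℤ) (l : T.H X →ₗ[K] K) (v : T.H X) :
    trI T X i (l.smulRight v) = l (proj T X i v : T.H X) := by
  rw [trI_eq]
  have h : proj T X i ∘ₗ l.smulRight v ∘ₗ (T.gr X i).subtype =
      (l ∘ₗ (T.gr X i).subtype).smulRight (proj T X i v) := by
    ext x
    simp
  rw [h, LinearMap.trace_smulRight]
  rfl

theorem trI_eq_trace_of_mem (i : ℤ) {L : T.H X →ₗ[K] T.H X} {M : T.gr X i →ₗ[K] T.gr X i}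
    (h : ∀ x : T.gr X i, L x = (M x : T.H X)) : trI T X i L = LinearMap.trace K (T.gr X i) M := by
  rw [trI_eq]
  congr 1
  ext x
  simp [h x, proj_coe]

theorem neg_one_pow_congr {a b : ℕ} (h : Even (a + b)) : (-1 : K) ^ a = (-1 : K) ^ b := by
  rw [neg_one_pow_eq_pow_mod_two, neg_one_pow_eq_pow_mod_two (n := b)]
  congr 1
  rw [Nat.even_iff] at h
  omega

/-- Supertrace of a rank one endomorphism. -/
theorem sum_trI_smulRight (a v : T.H X) :
    ∑ i ∈ Finset.range (2 * WeilCoh.dim X.obj.left + 1),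
      (-1 : K) ^ i * T.tr X ((proj T X (i : ℤ) v : T.H X) * a) = T.tr X (a * v) := by
  induction v using induction_gr T with
  | hom s v hv =>
    induction a using induction_gr T with
    | hom t a ha =>
      by_cases hs : 0 ≤ s ∧ s ≤ 2 * (WeilCoh.dim X.obj.left : ℤ)
      · obtain ⟨m, rfl⟩ : ∃ m : ℕ, (m : ℤ) = s := ⟨s.toNat, Int.toNat_of_nonneg hs.1⟩
        rw [Finset.sum_eq_single m (fun j _ hj => by
          rw [proj_of_mem_ne T hv (by omega)]; simp) (fun hm => absurd (Finset.mem_range.mpr (by omega)) hm),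
          proj_of_mem T hv]
        dsimp only
        by_cases h : t + m = 2 * (WeilCoh.dim X.obj.left : ℤ)
        · rw [T.gradedComm X t m a v ha hv, map_smul, smul_eq_mul]
          congr 1
          refine neg_one_pow_congr ?_
          have ht : t.natAbs % 2 = m % 2 := by omega
          rw [Nat.even_iff, Nat.add_mod, Nat.mul_mod, Int.natAbs_natCast, ht]
          rcases Nat.mod_two_eq_zero_or_one m with h2 | h2 <;> simp [h2]
        · rw [tr_mul_eq_zero T hv ha (by omega), tr_mul_eq_zero T ha hv h, mul_zero]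
      · have hv0 : v = 0 := by simpa [T.vanish X s (by omega)] using hv
        simp [hv0]
    | add x y hx hy => simp only [mul_add, add_mul, map_add, Finset.sum_add_distrib, hx, hy]
  | add x y hx hy =>
    simp only [map_add, Submodule.coe_add, mul_add, add_mul, Finset.sum_add_distrib, hx, hy]

theorem pull_apply_pull {W W' : P.FullSubcategory} (σ : W ⟶ W') (p' : W' ⟶ X) (p : W ⟶ X)
    (h : σ ≫ p' = p) (a : T.H X) : T.pull σ (T.pull p' a) = T.pull p a := by
  rw [← h, T.pull_comp]
  rfl

theorem tr_pull_pull_pull (p : Q ⟶ X) (q : Q ⟶ Y) (hQ : WeilCoh.IsProd p q) (a a' : T.H X) (b : T.H Y) :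
    T.tr Q (T.pull p a * (T.pull q b * T.pull p a')) = T.tr X (a * a') * T.tr Y b := by
  induction b using induction_gr T with
  | hom t b hb =>
    induction a' using induction_gr T with
    | hom s a' ha =>
      rw [T.gradedComm Q t s _ _ (T.pull_mem q t b hb) (T.pull_mem p s a' ha), mul_smul_comm,
        map_smul, ← mul_assoc, ← map_mul (T.pull p), tr_pull_mul_pull T p q hQ, smul_eq_mul]
      by_cases ht : t = 2 * (WeilCoh.dim Y.obj.left : ℤ)
      · rw [sign_even s (ht ▸ even_two_mul _), one_mul]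
      · rw [T.tr_vanish Y t b hb ht]; simp
    | add x y hx hy => simp only [map_add, mul_add, add_mul, hx, hy]
  | add x y hx hy => simp only [map_add, mul_add, add_mul, hx, hy]

/-- The trace formula for correspondences. -/
theorem tr_mul_pull_swap {W W' : P.FullSubcategory} (p : W ⟶ X) (q : W ⟶ Y) (hW : WeilCoh.IsProd p q)
    (p' : W' ⟶ Y) (q' : W' ⟶ X) (hW' : WeilCoh.IsProd p' q') (σ : W ⟶ W') (hσ₁ : σ ≫ p' = q)
    (hσ₂ : σ ≫ q' = p) (φ : T.H W) (ψ : T.H W') :
    T.tr W (φ * T.pull σ ψ) =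
      ∑ i ∈ Finset.range (2 * WeilCoh.dim X.obj.left + 1),
        (-1 : K) ^ i * trI T X (i : ℤ) (act T p' q' ψ ∘ₗ act T p q φ) := by
  induction φ using kunneth_induction T p q hW with
  | mul a c =>
    induction ψ using kunneth_induction T p' q' hW' with
    | mul c' a' =>
      have hL : act T p' q' (T.pull p' c' * T.pull q' a') ∘ₗ act T p q (T.pull p a * T.pull q c) =
          T.tr Y (c * c') • ((T.tr X) ∘ₗ LinearMap.mulRight K a).smulRight a' := by
        ext x
        simp only [LinearMap.comp_apply, act_pull_mul_pull T p q hW, act_pull_mul_pull T p' q' hW',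
          LinearMap.smul_apply, LinearMap.smulRight_apply, LinearMap.mulRight_apply,
          smul_mul_assoc, map_smul, smul_smul, smul_eq_mul]
        rw [mul_comm]
      simp only [hL, map_smul, trI_smulRight, LinearMap.comp_apply, LinearMap.mulRight_apply,
        smul_eq_mul, mul_left_comm _ (T.tr Y (c * c'))]
      rw [← Finset.mul_sum, sum_trI_smulRight, map_mul (T.pull σ), pull_apply_pull T σ p' q hσ₁,
        pull_apply_pull T σ q' p hσ₂, mul_assoc, ← mul_assoc (T.pull q c), ← map_mul (T.pull q),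
        tr_pull_pull_pull T p q hW]
      ring
    | add x y hx hy =>
      simp only [map_add, mul_add, LinearMap.add_comp, Finset.sum_add_distrib, hx, hy]
  | add x y hx hy =>
    simp only [map_add, add_mul, LinearMap.comp_add, mul_add, Finset.sum_add_distrib, hx, hy]

end Groth.Agent.Weil
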