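import Groth.Agent.Weil.Graph
import Groth.Agent.Weil.Corr

/-!
# The class of a graph and the trace formula
-/

universe u v

noncomputable section

open AlgebraicGeometry CategoryTheory

namespace Groth.Agent.Weil

variable {k : Type u} [Field k] [IsAlgClosed k]
variable {K : Type v} [Field K] [CharZero K] (T : WeilCoh.Theory k K)
variable {X Y P : WeilCoh.Var k}

theorem repr_eq_tr (r : ℤ) {ι : Type*} [Fintype ι] [DecidableEq ι] (e : Module.Basis ι K (T.gr X r))
    (f : ι → T.H X) (hef : ∀ i l, T.tr X (f l * (e i : T.H X)) = if i = l then 1 else 0)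
    (y : T.gr X r) (l : ι) : e.repr y l = T.tr X (f l * (y : T.H X)) := by
  conv_rhs => rw [← e.sum_repr y, AddSubmonoidClass.coe_finsetSum, Finset.mul_sum, map_sum]
  simp [hef]

theorem exists_dual (r : ℤ) {ι : Type*} [Fintype ι] [DecidableEq ι]
    (e : Module.Basis ι K (T.gr X r)) :
    ∃ f : ι → T.gr X (2 * (WeilCoh.dim X.obj.left : ℤ) - r),
      ∀ i l, T.tr X ((f l : T.H X) * (e i : T.H X)) = if i = l then 1 else 0 := by
  haveI := T.duality X (2 * (WeilCoh.dim X.obj.left : ℤ) - r) r (sub_add_cancel _ _)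
  let pr := WeilCoh.pairing K (T.gr X (2 * (WeilCoh.dim X.obj.left : ℤ) - r)) (T.gr X r) (T.tr X)
  refine ⟨fun l => pr.toPerfPair.symm (e.coord l), fun i l => ?_⟩
  have h := LinearMap.congr_fun (LinearMap.apply_symm_toPerfPair_self pr (e.coord l)) (e i)
  refine h.trans ?_
  simp [Finsupp.single_apply]

theorem trace_eq_sum_tr (r : ℤ) {ι : Type*} [Fintype ι] [DecidableEq ι]
    (e : Module.Basis ι K (T.gr X r))
    (f : ι → T.H X) (hef : ∀ i l, T.tr X (f l * (e i : T.H X)) = if i = l then 1 else 0)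
    (L : T.gr X r →ₗ[K] T.gr X r) :
    LinearMap.trace K _ L = ∑ i, T.tr X (f i * (L (e i) : T.H X)) := by
  rw [LinearMap.trace_eq_matrix_trace K e, Matrix.trace]
  refine Finset.sum_congr rfl fun i _ => ?_
  rw [Matrix.diag, LinearMap.toMatrix_apply, repr_eq_tr T r e f hef]

theorem even_add_of_sum_eq {a b m : ℕ} {c : ℤ} (h : c + b = 2 * m) (hc : c.natAbs = a) :
    Even (a * b + b) := by
  have : a % 2 = b % 2 := by omega
  rw [Nat.even_iff, Nat.add_mod, Nat.mul_mod, this]
  rcases Nat.mod_two_eq_zero_or_one b with h2 | h2 <;> simp [h2]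

theorem cl_graph_eq [IrreducibleSpace ↥X.obj.left] (φ : X ⟶ Y) (p : P ⟶ X) (q : P ⟶ Y)
    (hP : WeilCoh.IsProd p q) (j : X ⟶ P) (hjp : j ≫ p = 𝟙 X) (hjq : j ≫ q = φ)
    (ι : ℕ → Type) [∀ r, Fintype (ι r)] [∀ r, DecidableEq (ι r)]
    (e : (r : ℕ) → Module.Basis (ι r) K ↥(T.gr Y (r : ℤ)))
    (f : (r : ℕ) → ι r → ↥(T.gr Y (2 * (WeilCoh.dim Y.obj.left : ℤ) - r)))
    (hef : ∀ r, r ≤ 2 * WeilCoh.dim Y.obj.left → ∀ i l : ι r,
      T.tr Y ((f r l : T.H Y) * (e r i : T.H Y)) = if i = l then 1 else 0) :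
    T.cl P (WeilCoh.sm j (genericPoint ↥X.obj.left)) =
      ∑ r ∈ Finset.range (2 * WeilCoh.dim Y.obj.left + 1), ∑ i : ι r,
        T.pull p (T.pull φ (e r i : T.H Y)) * T.pull q (f r i : T.H Y) := by
  refine ext_tr_prod T p q hP fun a b => ?_
  rw [tr_cl_graph_mul T φ p q j hjp hjq, Finset.sum_mul, map_sum]
  induction b using induction_gr T with
  | hom t b hb =>
    induction a using induction_gr T with
    | hom s a ha =>
      have key : ∀ r i, T.tr P (T.pull p (T.pull φ (e r i : T.H Y)) * T.pull q (f r i : T.H Y) *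
          (T.pull p a * T.pull q b)) =
          (-1 : K) ^ ((2 * (WeilCoh.dim Y.obj.left : ℤ) - r).natAbs * s.natAbs) *
            ((-1 : K) ^ ((r : ℤ).natAbs * s.natAbs) * T.tr X (a * T.pull φ (e r i : T.H Y))) *
            T.tr Y ((f r i : T.H Y) * b) := by
        intro r i
        rw [mul_assoc, ← mul_assoc (T.pull q _) (T.pull p a),
          T.gradedComm P _ s _ _ (T.pull_mem q _ _ (f r i).2) (T.pull_mem p s a ha),
          smul_mul_assoc, mul_smul_comm, map_smul, mul_assoc (T.pull p a), ← map_mul (T.pull q),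
          ← mul_assoc, ← map_mul (T.pull p), tr_pull_mul_pull T p q hP,
          T.gradedComm X _ s _ _ (T.pull_mem φ _ _ (e r i).2) ha, map_smul, smul_eq_mul, smul_eq_mul]
        ring
      by_cases ht : 0 ≤ t ∧ t ≤ 2 * (WeilCoh.dim Y.obj.left : ℤ)
      · obtain ⟨r, rfl⟩ : ∃ m : ℕ, (m : ℤ) = t := ⟨t.toNat, Int.toNat_of_nonneg ht.1⟩
        rw [Finset.sum_eq_single r (fun r' _ hr => by
          rw [Finset.sum_mul, map_sum]
          refine Finset.sum_eq_zero fun i _ => ?_
          rw [key, tr_mul_eq_zero T (f r' i).2 hb (by omega), mul_zero])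
          (fun hm => absurd (Finset.mem_range.mpr (by omega)) hm), Finset.sum_mul, map_sum]
        simp only [key]
        have hr : r ≤ 2 * WeilCoh.dim Y.obj.left := by omega
        have hs : s.natAbs * 1 = s.natAbs := mul_one _
        rw [show (-1 : K) ^ ((2 * (WeilCoh.dim Y.obj.left : ℤ) - r).natAbs * s.natAbs) =
          (-1 : K) ^ ((r : ℤ).natAbs * s.natAbs) from neg_one_pow_congr (by
            rw [← add_mul]
            exact Even.mul_right (Nat.even_iff.mpr (by omega)) _)]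
        simp only [← mul_assoc, ← mul_pow, neg_one_mul, neg_neg, one_pow, one_mul]
        have hbsum : b = ∑ i, (e r).repr ⟨b, hb⟩ i • (e r i : T.H Y) :=
          (congrArg Subtype.val ((e r).sum_repr ⟨b, hb⟩).symm).trans
            (AddSubmonoidClass.coe_finsetSum _ _)
        conv_lhs => rw [hbsum]
        rw [map_sum, Finset.mul_sum, map_sum]
        refine Finset.sum_congr rfl fun i _ => ?_
        rw [map_smul, mul_smul_comm, map_smul, smul_eq_mul,
          repr_eq_tr T _ (e r) (fun l => (f r l : T.H Y)) (hef r hr), mul_comm]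
      · have hb0 : b = 0 := by simpa [T.vanish Y t (by omega)] using hb
        simp [hb0]
    | add x y hx hy =>
      simp only [map_add, add_mul, mul_add, Finset.sum_add_distrib, hx, hy]
  | add x y hx hy =>
    simp only [map_add, mul_add, Finset.sum_add_distrib, hx, hy]

theorem lefschetz [IrreducibleSpace ↥X.obj.left] (φ : X ⟶ X)
    (p q : P ⟶ X) (hP : WeilCoh.IsProd p q) (j d : X ⟶ P)
    (hjp : j ≫ p = 𝟙 X) (hjq : j ≫ q = φ) (hdp : d ≫ p = 𝟙 X) (hdq : d ≫ q = 𝟙 X) :
    T.tr P (T.cl P (WeilCoh.sm j (genericPoint ↥X.obj.left)) *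
        T.cl P (WeilCoh.sm d (genericPoint ↥X.obj.left))) =
      ∑ i ∈ Finset.range (2 * WeilCoh.dim X.obj.left + 1),
        (-1 : K) ^ i * LinearMap.trace K ↥(T.gr X (i : ℤ)) (T.pullDeg φ (i : ℤ)) := by
  classical
  let e : (r : ℕ) → Module.Basis (Fin (Module.finrank K (T.gr X (r : ℤ)))) K (T.gr X (r : ℤ)) :=
    fun r => Module.finBasis K _
  choose f hf using fun r : ℕ => exists_dual T (r : ℤ) (e r)
  rw [← cl_commute, cl_graph_eq T φ p q hP j hjp hjq _ e f fun r _ => hf r, Finset.mul_sum, map_sum]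
  refine Finset.sum_congr rfl fun r hr => ?_
  rw [trace_eq_sum_tr T _ (e r) (fun i => (f r i : T.H X)) (hf r), Finset.mul_sum, map_sum,
    Finset.mul_sum]
  refine Finset.sum_congr rfl fun i _ => ?_
  rw [tr_cl_section_mul T d p hdp, cl_generic, one_mul, map_mul, pull_section T d p hdp,
    pull_section T d q hdq,
    T.gradedComm X r _ _ _ (T.pull_mem φ _ _ (e r i).2) (f r i).2, map_smul, smul_eq_mul]
  refine congrArg₂ _ (neg_one_pow_congr ?_) rfl
  rw [Int.natAbs_natCast, mul_comm]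
  exact even_add_of_sum_eq (sub_add_cancel _ _) rfl

end Groth.Agent.Weil
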