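import Groth.Agent.Weil.FrobCount
import Groth.Agent.Weil.Lefschetz
import Groth.Agent.PowExp.Basic
import Mathlib.LinearAlgebra.Matrix.Charpoly.Coeff
import Mathlib.Algebra.BigOperators.Field

/-!
# The cohomological expression of the zeta function
-/

universe u v

noncomputable section

open AlgebraicGeometry CategoryTheory PowerSeries

namespace Groth.Agent.Weil

variable {k : Type u} [Field k] [IsAlgClosed k] {K : Type v} [Field K] [CharZero K]
variable (T : WeilCoh.Theory k K)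

theorem pullDeg_iter {Xb : WeilCoh.Var k} (F : Xb ⟶ Xb) (m : ℕ) (i : ℤ) :
    T.pullDeg (iter F m) i = T.pullDeg F i ^ m := by
  refine LinearMap.ext fun x => Subtype.ext ?_
  show T.pull (iter F m) (x : T.H Xb) = ((T.pullDeg F i ^ m) x : T.H Xb)
  have h := aeval_pullDeg T F i (Polynomial.X ^ m) x
  simp only [map_pow, Polynomial.aeval_X] at h
  rw [h, ← pull_iter]
  rfl

/-- `∑ tr(F*^m | H^i) t^m / m`. -/
def logP {Xb : WeilCoh.Var k} (F : Xb ⟶ Xb) (i : ℕ) : PowerSeries K :=
  mk fun m => LinearMap.trace K _ (T.pullDeg F (i : ℤ) ^ m) / (m : K)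

theorem constantCoeff_logP {Xb : WeilCoh.Var k} (F : Xb ⟶ Xb) (i : ℕ) :
    constantCoeff (logP T F i) = 0 := by
  simp [logP, ← coeff_zero_eq_constantCoeff_apply]

theorem coe_reverse_charpoly {Xb : WeilCoh.Var k} (F : Xb ⟶ Xb) (i : ℕ) :
    ((LinearMap.charpoly (T.pullDeg F (i : ℤ))).reverse : PowerSeries K) =
      PowExp.expS (-logP T F i) := by
  classical
  let b := Module.finBasis K (T.gr Xb (i : ℤ))
  rw [← LinearMap.charpoly_toMatrix _ b, Matrix.reverse_charpoly, PowExp.coe_charpolyRev_eq_expS]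
  congr 1
  ext m
  simp only [logP, map_neg, coeff_mk]
  rw [LinearMap.trace_eq_matrix_trace K b,
    show LinearMap.toMatrix b b (T.pullDeg F (i : ℤ) ^ m) = (LinearMap.toMatrix b b (T.pullDeg F (i : ℤ))) ^ m from
      map_pow (LinearMap.toMatrixAlgEquiv b) _ m, neg_div]

variable {k₀ : Type u} [Field k₀] [Finite k₀] [Algebra k₀ k]
  {X : Scheme.{u}} (f : X ⟶ Spec (CommRingCat.of k₀)) [LocallyOfFiniteType f] [QuasiCompact f]
  (FX : X ⟶ X) (hFb : FX.base = 𝟙 _)
  (hle : ∀ U : X.Opens, U ≤ FX ⁻¹ᵁ U)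
  (hFapp : ∀ (U : X.Opens) (s : Γ(X, U)), (FX.appLE U U (hle U)).hom s = s ^ Nat.card k₀)
  (Xb : WeilCoh.Var k) (π : Xb.obj.left ⟶ X)
  (hπ : IsPullback π Xb.obj.hom f (Spec.map (CommRingCat.ofHom (algebraMap k₀ k))))
  (F : Xb ⟶ Xb) (hF : WeilCoh.sm F ≫ π = π ≫ FX)
  {Pb : WeilCoh.Var k} (p q : Pb ⟶ Xb) (hP : WeilCoh.IsProd p q)

include hFb hle hFapp hπ hF hP in
theorem zetaFun_mul_prod_even :
    PowerSeries.map (algebraMap ℚ K) (Zeta.zetaFun f) *
        (∏ i ∈ Finset.range (WeilCoh.dim Xb.obj.left + 1),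
          ((LinearMap.charpoly (T.pullDeg F ((2 * i : ℕ) : ℤ))).reverse : PowerSeries K)) =
      ∏ i ∈ Finset.range (WeilCoh.dim Xb.obj.left),
        ((LinearMap.charpoly (T.pullDeg F ((2 * i + 1 : ℕ) : ℤ))).reverse : PowerSeries K) := by
  haveI := irreducible Xb
  set n := WeilCoh.dim Xb.obj.left
  have hc : constantCoeff (Zeta.logZeta f) = 0 := by
    simp [Zeta.logZeta, ← coeff_zero_eq_constantCoeff_apply]
  have hc' : constantCoeff (PowerSeries.map (algebraMap ℚ K) (Zeta.logZeta f)) = 0 := by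
    simp [Zeta.logZeta, ← coeff_zero_eq_constantCoeff_apply]
  rw [show PowerSeries.map (algebraMap ℚ K) (Zeta.zetaFun f) =
    PowExp.expS (PowerSeries.map (algebraMap ℚ K) (Zeta.logZeta f)) from PowExp.map_expS _ hc]
  simp only [coe_reverse_charpoly]
  rw [← PowExp.expS_sum _ _ (fun i _ => by simp [constantCoeff_logP]),
    ← PowExp.expS_sum _ _ (fun i _ => by simp [constantCoeff_logP]),
    ← PowExp.expS_add hc' (by simp [constantCoeff_logP])]
  congr 1
  have hsplit : ∀ (g : ℕ → PowerSeries K) (N : ℕ), ∑ i ∈ Finset.range (2 * N + 1), (-1 : PowerSeries K) ^ i * g i =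
      (∑ i ∈ Finset.range (N + 1), g (2 * i)) - ∑ i ∈ Finset.range N, g (2 * i + 1) := by
    intro g N
    induction N with
    | zero => simp
    | succ N ih =>
      rw [show 2 * (N + 1) + 1 = 2 * N + 1 + 1 + 1 by omega, Finset.sum_range_succ, Finset.sum_range_succ, ih,
        Finset.sum_range_succ (fun i => g (2 * i)) (N + 1), Finset.sum_range_succ (fun i => g (2 * i + 1)) N,
        Odd.neg_one_pow ⟨N, rfl⟩, Even.neg_one_pow ⟨N + 1, by omega⟩,
        show 2 * (N + 1) = 2 * N + 1 + 1 by omega]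
      ring
  have key : PowerSeries.map (algebraMap ℚ K) (Zeta.logZeta f) =
      ∑ i ∈ Finset.range (2 * n + 1), (-1 : PowerSeries K) ^ i * logP T F i := by
    ext m
    rcases m with _ | m
    · simp only [coeff_zero_eq_constantCoeff, hc', map_sum, map_mul, constantCoeff_logP, mul_zero,
        Finset.sum_const_zero]
    · have hL := lefschetz T (iter F (m + 1)) p q hP (lift hP (𝟙 Xb) (iter F (m + 1))) (lift hP (𝟙 Xb) (𝟙 Xb))
        (lift_fst hP _ _) (lift_snd hP _ _) (lift_fst hP _ _) (lift_snd hP _ _)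
      rw [tr_graph_iter_mul_diag T f FX hFb hle hFapp Xb π hπ F hF p q hP m] at hL
      simp only [pullDeg_iter] at hL
      simp only [map_sum, Zeta.logZeta, coeff_map, coeff_mk, logP, map_div₀, map_natCast]
      rw [hL, Finset.sum_div]
      refine Finset.sum_congr rfl fun i _ => ?_
      rw [show ((-1 : PowerSeries K) ^ i) = PowerSeries.C ((-1 : K) ^ i) by simp, coeff_C_mul, coeff_mk,
        mul_div_assoc]
  rw [key, hsplit]
  simp only [Finset.sum_neg_distrib]
  abel

end Groth.Agent.Weil
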