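import Mathlib.LinearAlgebra.Charpoly.ToMatrix
import Mathlib.LinearAlgebra.Matrix.Charpoly.Coeff
import Mathlib.LinearAlgebra.Dual.Lemmas
import Mathlib.LinearAlgebra.PerfectPairing.Basic
import Mathlib.LinearAlgebra.Determinant
import Mathlib.Tactic.LinearCombination

/-!
# Determinants of endomorphisms adjoint up to a scalar
-/

noncomputable section

namespace Groth.Agent.Weil

theorem det_mul_det_of_pairing {L : Type*} [Field L] {V W : Type*}
    [AddCommGroup V] [Module L V] [FiniteDimensional L V] [AddCommGroup W] [Module L W] [FiniteDimensional L W]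
    (B : V →ₗ[L] W →ₗ[L] L) [B.IsPerfPair] (F : V →ₗ[L] V) (G : W →ₗ[L] W) (c : L)
    (hFG : ∀ (v : V) (w : W), B (F v) (G w) = c * B v w) :
    LinearMap.det F * LinearMap.det G = c ^ Module.finrank L V := by
  set φ := B.toPerfPair
  have h1 : (φ.symm.toLinearMap ∘ₗ G.dualMap ∘ₗ φ.toLinearMap) ∘ₗ F = c • LinearMap.id := by
    ext v
    apply φ.injective
    simp only [LinearMap.comp_apply, LinearEquiv.coe_coe, LinearEquiv.apply_symm_apply,
      LinearMap.smul_apply, LinearMap.id_apply, map_smul]
    ext w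
    simp [φ, hFG]
  have h2 : LinearMap.det (φ.symm.toLinearMap ∘ₗ G.dualMap ∘ₗ φ.toLinearMap) = LinearMap.det G := by
    rw [← LinearMap.det_dualMap G]
    exact LinearMap.det_conj G.dualMap φ.symm
  have h := congrArg LinearMap.det h1
  rw [LinearMap.det_comp, h2, LinearMap.det_smul, LinearMap.det_id, mul_one] at h
  rw [mul_comm]; exact h

theorem charpoly_of_mul_eq_one {K : Type*} [CommRing K] {n : Type*} [Fintype n] [DecidableEq n]
    {M N : Matrix n n K} (h : M * N = 1) :
    N.charpoly = ((-1) ^ Fintype.card n * N.det) • M.charpolyRev := by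
  have h' : N * M = 1 := mul_eq_one_comm.mp h
  have hm : Matrix.charmatrix N =
      (-(N.map Polynomial.C)) * (1 - (Polynomial.X : Polynomial K) • M.map Polynomial.C) := by
    rw [Matrix.mul_sub, Matrix.mul_one, Matrix.mul_smul, Matrix.neg_mul, ← Matrix.map_mul, h']
    refine Matrix.ext fun i j => ?_
    rcases eq_or_ne i j with rfl | hij
    · simp [Matrix.charmatrix, add_comm]; ring
    · simp [Matrix.charmatrix, hij]
  rw [Matrix.charpoly, hm, Matrix.det_mul, Matrix.det_neg, Matrix.charpolyRev,
    Polynomial.smul_eq_C_mul, ← RingHom.mapMatrix_apply, ← RingHom.map_det]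
  simp

theorem det_smul_charpoly_reverse_of_pairing {K : Type*} [Field K] {V W : Type*}
    [AddCommGroup V] [Module K V] [FiniteDimensional K V] [AddCommGroup W] [Module K W]
    [FiniteDimensional K W] (B : V →ₗ[K] W →ₗ[K] K) [B.IsPerfPair] (f : V →ₗ[K] V) (g : W →ₗ[K] W)
    (c : K) (hc : c ≠ 0) (hfg : ∀ (v : V) (w : W), B (f v) (g w) = c * B v w) :
    LinearMap.det f • (LinearMap.charpoly g).reverse =
      ((-1) ^ Module.finrank K W * c ^ Module.finrank K W) • (c⁻¹ • f).charpoly := by
  set φ := B.toPerfPair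
  set f' := c⁻¹ • f with hf'
  have h1 : g.dualMap ∘ₗ (φ.toLinearMap ∘ₗ f' ∘ₗ φ.symm.toLinearMap) = LinearMap.id := by
    ext ψ w
    simp only [LinearMap.comp_apply, LinearEquiv.coe_coe, LinearMap.dualMap_apply,
      LinearMap.id_apply, hf', LinearMap.smul_apply, map_smul]
    obtain ⟨v, rfl⟩ := φ.surjective ψ
    simp only [LinearEquiv.symm_apply_apply]
    simp [φ, hfg, hc]
  let b := Module.finBasis K W
  let M := LinearMap.toMatrix b b g
  let N' := LinearMap.toMatrix b.dualBasis b.dualBasis (φ.toLinearMap ∘ₗ f' ∘ₗ φ.symm.toLinearMap)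
  have hMN : M.transpose * N' = 1 := by
    have h2 := congrArg (LinearMap.toMatrix b.dualBasis b.dualBasis) h1
    rw [LinearMap.toMatrix_comp b.dualBasis b.dualBasis b.dualBasis] at h2
    rw [LinearMap.toMatrix_id] at h2
    rw [← h2, LinearMap.dualMap_def, LinearMap.toMatrix_transpose]
  have hcf : f'.charpoly = N'.charpoly := by
    rw [show N'.charpoly = (φ.toLinearMap ∘ₗ f' ∘ₗ φ.symm.toLinearMap).charpoly from
      LinearMap.charpoly_toMatrix _ _]
    exact (LinearEquiv.charpoly_conj φ f').symm
  have hg : g.charpoly.reverse = M.transpose.charpolyRev := by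
    rw [← LinearMap.charpoly_toMatrix g b, ← Matrix.charpoly_transpose, Matrix.reverse_charpoly]
  have key := charpoly_of_mul_eq_one hMN
  have hdg : M.transpose.det = LinearMap.det g := by
    rw [Matrix.det_transpose]; exact LinearMap.det_toMatrix b g
  rw [hcf, hg]
  have hdet := det_mul_det_of_pairing B f g c hfg
  have hr : Module.finrank K V = Module.finrank K W := Module.finrank_of_isPerfPair B
  rw [← hdg, hr] at hdet
  rw [key, smul_smul, ← hdet]
  have hd0 : M.transpose.det * N'.det = 1 := by rw [← Matrix.det_mul, hMN, Matrix.det_one]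
  congr 1
  have hs : ((-1 : K) ^ Module.finrank K W) * (-1) ^ Module.finrank K W = 1 := by
    rw [← mul_pow]; simp
  simp only [Fintype.card_fin]
  linear_combination (-(LinearMap.det f)) * hd0 + (-(LinearMap.det f * M.transpose.det * N'.det)) * hs

end Groth.Agent.Weil
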