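import Groth.Agent.Weil.FrobCoh
import Groth.Agent.Weil.PairLinAlg
import Mathlib.FieldTheory.RatFunc.AsPolynomial
import Mathlib.LinearAlgebra.SesquilinearForm.Basic

/-!
# The functional equation
-/

universe u v

noncomputable section

open AlgebraicGeometry CategoryTheory Polynomial

namespace Groth.Agent.Weil

theorem charpoly_inv_smul {K : Type*} [Field K] {V : Type*} [AddCommGroup V] [Module K V]
    [FiniteDimensional K V] (f : V →ₗ[K] V) {c : K} (hc : c ≠ 0) :
    f.charpoly.comp (C c * X) = C (c ^ Module.finrank K V) * (c⁻¹ • f).charpoly := by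
  classical
  let b := Module.finBasis K V
  rw [← LinearMap.charpoly_toMatrix f b, ← LinearMap.charpoly_toMatrix (c⁻¹ • f) b, map_smul,
    Matrix.charpoly, Matrix.charpoly, ← coe_compRingHom_apply, RingHom.map_det]
  have hCC : C c * C c⁻¹ = (1 : K[X]) := by rw [← C_mul, mul_inv_cancel₀ hc, C_1]
  have h : (compRingHom (C c * X)).mapMatrix (LinearMap.toMatrix b b f).charmatrix =
      (C c) • (c⁻¹ • LinearMap.toMatrix b b f).charmatrix := by
    refine Matrix.ext fun i j => ?_
    rcases eq_or_ne i j with rfl | hij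
    · simp [mul_sub, ← mul_assoc, hCC]
    · simp [hij, ← mul_assoc, hCC]
  rw [h, Matrix.det_smul, Fintype.card_fin, map_pow]

theorem even_finrank_of_skew {K : Type*} [Field K] [CharZero K] {V : Type*} [AddCommGroup V]
    [Module K V] [FiniteDimensional K V] (B : V →ₗ[K] V →ₗ[K] K) [B.IsPerfPair]
    (h : ∀ x y, B x y = - B y x) : Even (Module.finrank K V) := by
  classical
  let b := Module.finBasis K V
  let M : Matrix (Fin _) (Fin _) K := Matrix.of fun i j => B (b i) (b j)
  have hM : M.transpose = -M := Matrix.ext fun i j => h _ _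
  have hne : M.det ≠ 0 := by
    intro h0
    obtain ⟨v, hv, hv'⟩ := Matrix.exists_vecMul_eq_zero_iff.mpr h0
    refine hv ?_
    have : B (∑ i, v i • b i) = 0 := b.ext fun j => by
      have := congrFun hv' j
      simpa [Matrix.vecMul, dotProduct, M] using this
    have h2 : ∑ i, v i • b i = 0 := (LinearMap.IsPerfPair.bijective_left (p := B)).1 (by rw [this, map_zero])
    exact funext (Fintype.linearIndependent_iff.mp b.linearIndependent v h2)
  by_contra ho
  rw [Nat.not_even_iff_odd] at ho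
  have h3 := congrArg Matrix.det hM
  rw [Matrix.det_transpose, Matrix.det_neg, Fintype.card_fin, ho.neg_one_pow, neg_one_mul] at h3
  exact hne (CharZero.eq_neg_self_iff.mp h3)

variable {k : Type u} [Field k] [IsAlgClosed k] {K : Type v} [Field K] [CharZero K]
variable (T : WeilCoh.Theory k K)

/-- The consequences of `tr (F* a) = c tr a`. -/
theorem det_mul_det {X : WeilCoh.Var k} {F : X ⟶ X} {c : K}
    (hF : ∀ a, T.tr X (T.pull F a) = c * T.tr X a) {i j : ℤ}
    (h : i + j = 2 * (WeilCoh.dim X.obj.left : ℤ)) :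
    LinearMap.det (T.pullDeg F i) * LinearMap.det (T.pullDeg F j) = c ^ Module.finrank K (T.gr X i) := by
  haveI := T.duality X i j h
  refine det_mul_det_of_pairing (WeilCoh.pairing K (T.gr X i) (T.gr X j) (T.tr X)) _ _ c fun a b => ?_
  show T.tr X (T.pull F a * T.pull F b) = _ * T.tr X ((a : T.H X) * b)
  rw [← map_mul (T.pull F), hF]

theorem det_smul_reverse {X : WeilCoh.Var k} {F : X ⟶ X} {c : K} (hc : c ≠ 0)
    (hF : ∀ a, T.tr X (T.pull F a) = c * T.tr X a) {i j : ℤ}
    (h : i + j = 2 * (WeilCoh.dim X.obj.left : ℤ)) :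
    LinearMap.det (T.pullDeg F i) • (LinearMap.charpoly (T.pullDeg F j)).reverse =
      (-1 : Polynomial K) ^ Module.finrank K (T.gr X i) *
        (LinearMap.charpoly (T.pullDeg F i)).comp (C c * Polynomial.X) := by
  haveI := T.duality X i j h
  rw [det_smul_charpoly_reverse_of_pairing (WeilCoh.pairing K (T.gr X i) (T.gr X j) (T.tr X))
    _ _ c hc fun a b => ?_, charpoly_inv_smul _ hc, ← finrank_gr_compl T X h, smul_eq_C_mul]
  · simp [map_pow, mul_assoc]
  · show T.tr X (T.pull F a * T.pull F b) = _ * T.tr X ((a : T.H X) * b)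
    rw [← map_mul (T.pull F), hF]

theorem even_finrank_middle (X : WeilCoh.Var k) (h : Odd (WeilCoh.dim X.obj.left)) :
    Even (Module.finrank K (T.gr X (WeilCoh.dim X.obj.left : ℤ))) := by
  set n := (WeilCoh.dim X.obj.left : ℤ)
  haveI := T.duality X n n (two_mul _).symm
  refine even_finrank_of_skew (WeilCoh.pairing K (T.gr X n) (T.gr X n) (T.tr X)) fun x y => ?_
  show T.tr X ((x : T.H X) * y) = - T.tr X ((y : T.H X) * x)
  rw [T.gradedComm X n n _ _ x.2 y.2, map_smul, smul_eq_mul,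
    Odd.neg_one_pow (by simpa [n] using h.mul h), neg_one_mul]

end Groth.Agent.Weil

namespace Groth.Agent.Weil

variable {k : Type u} [Field k] [IsAlgClosed k] {K : Type v} [Field K] [CharZero K]
variable (T : WeilCoh.Theory k K)

theorem det_ne_zero {X : WeilCoh.Var k} {F : X ⟶ X} {c : K} (hc : c ≠ 0)
    (hF : ∀ a, T.tr X (T.pull F a) = c * T.tr X a) (i : ℤ) :
    LinearMap.det (T.pullDeg F i) ≠ 0 := fun h0 => by
  have := det_mul_det T hF (i := i) (add_sub_cancel i (2 * (WeilCoh.dim X.obj.left : ℤ)))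
  rw [h0, zero_mul] at this
  exact pow_ne_zero _ hc this.symm

/-- The functional equation for the rational function `∏ odd / ∏ even`. -/
theorem functional_equation {X : WeilCoh.Var k} {F : X ⟶ X} {c : K} (hc : c ≠ 0)
    (hF : ∀ a, T.tr X (T.pull F a) = c * T.tr X a) :
    ∃ D : K, D ^ 2 = c ^ (∑ i ∈ Finset.range (2 * WeilCoh.dim X.obj.left + 1),
        (-1 : ℤ) ^ i * (Module.finrank K ↥(T.gr X (i : ℤ)) : ℤ)) ∧
      Polynomial.aeval ((RatFunc.X : RatFunc K)⁻¹ * RatFunc.C c⁻¹)
          (∏ i ∈ Finset.range (WeilCoh.dim X.obj.left),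
            (LinearMap.charpoly (T.pullDeg F ((2 * i + 1 : ℕ) : ℤ))).reverse) /
        Polynomial.aeval ((RatFunc.X : RatFunc K)⁻¹ * RatFunc.C c⁻¹)
          (∏ i ∈ Finset.range (WeilCoh.dim X.obj.left + 1),
            (LinearMap.charpoly (T.pullDeg F ((2 * i : ℕ) : ℤ))).reverse) =
      RatFunc.C D *
        (RatFunc.X : RatFunc K) ^ (∑ i ∈ Finset.range (2 * WeilCoh.dim X.obj.left + 1),
          (-1 : ℤ) ^ i * (Module.finrank K ↥(T.gr X (i : ℤ)) : ℤ)) *
        (algebraMap (Polynomial K) (RatFunc K)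
          (∏ i ∈ Finset.range (WeilCoh.dim X.obj.left),
            (LinearMap.charpoly (T.pullDeg F ((2 * i + 1 : ℕ) : ℤ))).reverse) /
         algebraMap (Polynomial K) (RatFunc K)
          (∏ i ∈ Finset.range (WeilCoh.dim X.obj.left + 1),
            (LinearMap.charpoly (T.pullDeg F ((2 * i : ℕ) : ℤ))).reverse)) := by
  set n := WeilCoh.dim X.obj.left
  let B : ℕ → ℕ := fun i => Module.finrank K (T.gr X (i : ℤ))
  let R : ℕ → Polynomial K := fun i => (LinearMap.charpoly (T.pullDeg F (i : ℤ))).reverse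
  let d : ℕ → K := fun i => LinearMap.det (T.pullDeg F (i : ℤ))
  let e : ℕ → K := fun i => (-1) ^ B i * d i / c ^ B i
  set x : RatFunc K := RatFunc.X
  set u : RatFunc K := x⁻¹ * RatFunc.C c⁻¹
  have hx : x ≠ 0 := RatFunc.X_ne_zero
  have hu : u * (RatFunc.C c * x) = 1 := by
    simp only [u, map_inv₀]
    have := (_root_.map_ne_zero (RatFunc.C (K := K))).mpr hc
    field_simp
  have hB : ∀ i ≤ 2 * n, B i = B (2 * n - i) := fun i hi =>
    finrank_gr_compl T X (by omega)
  have hterm : ∀ i ≤ 2 * n, Polynomial.aeval u (R i) =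
      RatFunc.C (e i) * (x ^ B i)⁻¹ * algebraMap _ (RatFunc K) (R (2 * n - i)) := by
    intro i hi
    have hij : (i : ℤ) + ((2 * n - i : ℕ) : ℤ) = 2 * (n : ℤ) := by omega
    have h1 := congrArg (algebraMap K[X] (RatFunc K)) (det_smul_reverse T hc hF hij)
    rw [smul_eq_C_mul, map_mul, RatFunc.algebraMap_C, map_mul, map_pow, map_neg, map_one] at h1
    have h2 : algebraMap K[X] (RatFunc K) ((LinearMap.charpoly (T.pullDeg F (i : ℤ))).comp (C c * Polynomial.X)) =
        Polynomial.aeval (RatFunc.C c * x) (LinearMap.charpoly (T.pullDeg F (i : ℤ))) := by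
      rw [comp_eq_aeval, ← Polynomial.aeval_algebraMap_apply, map_mul, RatFunc.algebraMap_C,
        RatFunc.algebraMap_X]
    rw [h2] at h1
    haveI : Invertible (RatFunc.C c * x) := invertibleOfNonzero (right_ne_zero_of_mul_eq_one hu)
    have h3 := Polynomial.eval₂_reverse_mul_pow (algebraMap K (RatFunc K)) (RatFunc.C c * x)
      (LinearMap.charpoly (T.pullDeg F (i : ℤ)))
    rw [show ⅟(RatFunc.C c * x) = u from invOf_eq_left_inv hu, LinearMap.charpoly_natDegree] at h3
    change Polynomial.aeval u (R i) * (RatFunc.C c * x) ^ B i = Polynomial.aeval (RatFunc.C c * x) _ at h3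
    rw [← h3] at h1
    change RatFunc.C (d i) * algebraMap _ _ (R (2 * n - i)) = (-1) ^ B i * _ at h1
    simp only [e, map_mul, map_div₀, map_pow, map_neg, map_one]
    have hcx : RatFunc.C c ≠ 0 := (_root_.map_ne_zero _).mpr hc
    field_simp
    rw [mul_assoc ((-1) ^ B i), h1, ← mul_assoc, ← mul_pow]
    simp [mul_pow, mul_comm, mul_assoc, mul_left_comm]
  have hsplit : ∀ {M : Type v} [CommMonoid M] (f : ℕ → M) (g : ℕ → ℕ) (m : ℕ), (∀ i < m, g i ≤ 2 * n) →
      (∀ i < m, 2 * n - g i = g (m - 1 - i)) →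
      ∏ i ∈ Finset.range m, f (2 * n - g i) = ∏ i ∈ Finset.range m, f (g i) := by
    intro M _ f g m _ hg
    rw [← Finset.prod_range_reflect (fun i => f (g i)) m]
    exact Finset.prod_congr rfl fun i hi => by rw [hg i (Finset.mem_range.mp hi)]
  have hEO : ∀ m, (∑ i ∈ Finset.range (2 * m + 1), (-1 : ℤ) ^ i * (B i : ℤ)) =
      (∑ i ∈ Finset.range (m + 1), B (2 * i) : ℕ) - (∑ i ∈ Finset.range m, B (2 * i + 1) : ℕ) := by
    intro m
    induction m with
    | zero => simp
    | succ m ih =>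
      rw [show 2 * (m + 1) + 1 = 2 * m + 1 + 1 + 1 by omega, Finset.sum_range_succ,
        Finset.sum_range_succ, ih, Finset.sum_range_succ (fun i => B (2 * i)) (m + 1),
        Finset.sum_range_succ (fun i => B (2 * i + 1)) m]
      rw [Odd.neg_one_pow ⟨m, rfl⟩, Even.neg_one_pow ⟨m + 1, by omega⟩]
      push_cast
      rw [show 2 * (m + 1) = 2 * m + 1 + 1 by omega]
      ring
  set SO := ∑ i ∈ Finset.range n, B (2 * i + 1)
  set SE := ∑ i ∈ Finset.range (n + 1), B (2 * i)
  have hd2 : ∀ (g : ℕ → ℕ) (m : ℕ), (∀ i < m, g i ≤ 2 * n) → (∀ i < m, 2 * n - g i = g (m - 1 - i)) →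
      (∏ i ∈ Finset.range m, e (g i)) ^ 2 * c ^ (∑ i ∈ Finset.range m, B (g i)) = 1 := by
    intro g m hg hg'
    have h : (∏ i ∈ Finset.range m, e (g i)) ^ 2 =
        ∏ i ∈ Finset.range m, e (g i) * e (2 * n - g i) := by
      rw [Finset.prod_mul_distrib, hsplit e g m hg hg', sq]
    rw [h, ← Finset.prod_pow_eq_pow_sum, ← Finset.prod_mul_distrib]
    refine Finset.prod_eq_one fun i hi => ?_
    have hi' := hg i (Finset.mem_range.mp hi)
    have hdd : d (g i) * d (2 * n - g i) = c ^ B (g i) := det_mul_det T hF (by omega)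
    simp only [e, ← hB _ hi']
    have h11 : ((-1 : K) ^ B (g i)) * (-1) ^ B (g i) = 1 := by rw [← mul_pow]; simp
    field_simp
    linear_combination ((-1 : K) ^ B (g i) * (-1) ^ B (g i)) * hdd + c ^ B (g i) * h11
  have hprod : ∀ (g : ℕ → ℕ) (m : ℕ), (∀ i < m, g i ≤ 2 * n) → (∀ i < m, 2 * n - g i = g (m - 1 - i)) →
      Polynomial.aeval u (∏ i ∈ Finset.range m, R (g i)) =
        RatFunc.C (∏ i ∈ Finset.range m, e (g i)) * (x ^ ∑ i ∈ Finset.range m, B (g i))⁻¹ *
          algebraMap _ (RatFunc K) (∏ i ∈ Finset.range m, R (g i)) := by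
    intro g m hg hg'
    rw [map_prod, Finset.prod_congr rfl fun i hi => hterm _ (hg i (Finset.mem_range.mp hi)),
      Finset.prod_mul_distrib, Finset.prod_mul_distrib, ← map_prod, ← map_prod, Finset.prod_inv_distrib,
      Finset.prod_pow_eq_pow_sum, hsplit R g m hg hg']
  have ho := hprod (fun i => 2 * i + 1) n (fun i hi => by omega) (fun i hi => by omega)
  have he := hprod (fun i => 2 * i) (n + 1) (fun i hi => by omega) (fun i hi => by omega)
  have ho2 := hd2 (fun i => 2 * i + 1) n (fun i hi => by omega) (fun i hi => by omega)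
  have he2 := hd2 (fun i => 2 * i) (n + 1) (fun i hi => by omega) (fun i hi => by omega)
  simp only [R] at ho he
  change (∏ i ∈ Finset.range n, e (2 * i + 1)) ^ 2 * c ^ SO = 1 at ho2
  change (∏ i ∈ Finset.range (n + 1), e (2 * i)) ^ 2 * c ^ SE = 1 at he2
  refine ⟨(∏ i ∈ Finset.range n, e (2 * i + 1)) / (∏ i ∈ Finset.range (n + 1), e (2 * i)), ?_, ?_⟩
  · rw [hEO n, zpow_sub₀ hc, zpow_natCast, zpow_natCast, div_pow]
    have h1 : (∏ i ∈ Finset.range (n + 1), e (2 * i)) ^ 2 ≠ 0 := left_ne_zero_of_mul_eq_one he2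
    rw [eq_div_iff (pow_ne_zero _ hc), div_mul_eq_mul_div, ho2, div_eq_iff h1]
    linear_combination -he2
  · rw [ho, he, hEO n, zpow_sub₀ hx, zpow_natCast, zpow_natCast, map_div₀]
    field_simp

end Groth.Agent.Weil
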