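import Groth.Agent.Weil.Geometry

/-!
# Classes of graphs, dual bases and the action of graphs
-/

universe u v

noncomputable section

open AlgebraicGeometry CategoryTheory

namespace Groth.Agent.Weil

variable {k : Type u} [Field k] [IsAlgClosed k]
variable {K : Type v} [Field K] [CharZero K] (T : WeilCoh.Theory k K)
variable {X Y P : WeilCoh.Var k}

/-- The class of the image of a section, tested on a class of the product. -/
theorem tr_cl_section_mul (j : X ⟶ P) (p : P ⟶ X) (hjp : j ≫ p = 𝟙 X) (ξ : X.obj.left) (a : T.H P) :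
    T.tr P (T.cl P (WeilCoh.sm j ξ) * a) = T.tr X (T.cl X ξ * T.pull j a) := by
  have h : (WeilCoh.sm j).residueDegree ξ = 1 := by
    refine residueDegree_eq_one_of_comp (WeilCoh.sm j) (WeilCoh.sm p) ξ ?_
    rw [show WeilCoh.sm j ≫ WeilCoh.sm p = 𝟙 _ from congrArg WeilCoh.sm hjp]
    exact Scheme.Hom.residueDegree_id _
  rw [cl_push_all T j ξ a, h, Nat.cast_one, one_mul]

theorem pull_section (j : X ⟶ P) (p : P ⟶ X) (hjp : j ≫ p = 𝟙 X) (a : T.H X) :
    T.pull j (T.pull p a) = a := by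
  rw [← AlgHom.comp_apply, ← T.pull_comp, hjp, T.pull_id, AlgHom.id_apply]

theorem pull_pull_of_comp {Q Z : WeilCoh.Var k} (j : X ⟶ Q) (q : Q ⟶ Z) (f : X ⟶ Z)
    (hjq : j ≫ q = f) (a : T.H Z) : T.pull j (T.pull q a) = T.pull f a := by
  rw [← AlgHom.comp_apply, ← T.pull_comp, hjq]

theorem tr_cl_graph_mul [IrreducibleSpace ↥X.obj.left] (f : X ⟶ Y) (p : P ⟶ X) (q : P ⟶ Y)
    (j : X ⟶ P) (hjp : j ≫ p = 𝟙 X) (hjq : j ≫ q = f) (a : T.H X) (b : T.H Y) :
    T.tr P (T.cl P (WeilCoh.sm j (genericPoint ↥X.obj.left)) * (T.pull p a * T.pull q b)) =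
      T.tr X (a * T.pull f b) := by
  rw [tr_cl_section_mul T j p hjp, cl_generic, one_mul, map_mul, pull_section T j p hjp,
    pull_pull_of_comp T j q f hjq]

end Groth.Agent.Weil
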