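import Groth.Agent.Weil.Graph
import Groth.Agent.Weil.Corr
import Mathlib.LinearAlgebra.Charpoly.Basic

/-!
# Polynomials in an endomorphism are algebraic correspondences
-/

universe u v

noncomputable section

open AlgebraicGeometry CategoryTheory

namespace Groth.Agent.Weil

variable {k : Type u} [Field k] [IsAlgClosed k]
variable {K : Type v} [Field K] [CharZero K] (T : WeilCoh.Theory k K)
variable {X Y P : WeilCoh.Var k}

/-- The lift to a product. -/
def lift {p : P ⟶ X} {q : P ⟶ Y} (hP : WeilCoh.IsProd p q) {Z : WeilCoh.Var k} (f : Z ⟶ X)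
    (g : Z ⟶ Y) : Z ⟶ P :=
  ObjectProperty.homMk (Over.homMk (hP.lift (WeilCoh.sm f) (WeilCoh.sm g)
    ((Over.w f.hom).trans (Over.w g.hom).symm))
    (by rw [← Over.w p.hom, hP.lift_fst_assoc, Over.w f.hom]))

theorem lift_fst {p : P ⟶ X} {q : P ⟶ Y} (hP : WeilCoh.IsProd p q) {Z : WeilCoh.Var k} (f : Z ⟶ X)
    (g : Z ⟶ Y) : lift hP f g ≫ p = f :=
  ObjectProperty.hom_ext _ (Over.OverMorphism.ext (hP.lift_fst _ _ _))

theorem lift_snd {p : P ⟶ X} {q : P ⟶ Y} (hP : WeilCoh.IsProd p q) {Z : WeilCoh.Var k} (f : Z ⟶ X)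
    (g : Z ⟶ Y) : lift hP f g ≫ q = g :=
  ObjectProperty.hom_ext _ (Over.OverMorphism.ext (hP.lift_snd _ _ _))

theorem hom_ext_prod {p : P ⟶ X} {q : P ⟶ Y} (hP : WeilCoh.IsProd p q) {Z : WeilCoh.Var k} {f g : Z ⟶ P}
    (h1 : f ≫ p = g ≫ p) (h2 : f ≫ q = g ≫ q) : f = g :=
  ObjectProperty.hom_ext _ (Over.OverMorphism.ext (hP.hom_ext
    (congrArg WeilCoh.sm h1) (congrArg WeilCoh.sm h2)))

/-- Iterates of an endomorphism. -/
def iter (F : X ⟶ X) : ℕ → (X ⟶ X)
  | 0 => 𝟙 X
  | m + 1 => iter F m ≫ F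

theorem pull_iter (F : X ⟶ X) (m : ℕ) :
    (T.pull (iter F m)).toLinearMap = ((T.pull F).toLinearMap : Module.End K (T.H X)) ^ m := by
  induction m with
  | zero => rw [pow_zero]; ext a; simp [iter, T.pull_id]
  | succ m ih => rw [pow_succ, ← ih]; ext a; simp [iter, T.pull_comp]

theorem cl_transpose_mem_gr (p q : P ⟶ X) (hP : WeilCoh.IsProd p q) [IrreducibleSpace ↥X.obj.left]
    (j : X ⟶ P) (hjq : j ≫ q = 𝟙 X) :
    T.cl P (WeilCoh.sm j (genericPoint ↥X.obj.left)) ∈ T.gr P (2 * (WeilCoh.dim X.obj.left : ℤ)) := by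
  have h1 : (WeilCoh.sm j).residueDegree (genericPoint ↥X.obj.left) = 1 := by
    refine residueDegree_eq_one_of_comp (WeilCoh.sm j) (WeilCoh.sm q) _ ?_
    rw [show WeilCoh.sm j ≫ WeilCoh.sm q = 𝟙 _ from congrArg WeilCoh.sm hjq]
    exact Scheme.Hom.residueDegree_id _
  have h2 := pdim_sm_of_residueDegree_ne_zero j (genericPoint ↥X.obj.left) (h1 ▸ one_ne_zero)
  rw [pdim_genericPoint] at h2
  have := T.cl_mem P (WeilCoh.sm j (genericPoint ↥X.obj.left))
  rwa [two_codim, ← h2, dim_prod T p q hP, show 2 * ((WeilCoh.dim X.obj.left + WeilCoh.dim X.obj.left : ℕ) : ℤ) -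
    2 * (WeilCoh.dim X.obj.left : ℤ) = 2 * (WeilCoh.dim X.obj.left : ℤ) by push_cast; ring] at this

theorem act_cl_transpose [IrreducibleSpace ↥X.obj.left] (f : X ⟶ Y) (p : P ⟶ Y) (q : P ⟶ X)
    (j : X ⟶ P) (hjp : j ≫ p = f) (hjq : j ≫ q = 𝟙 X) (x : T.H Y) :
    act T p q (T.cl P (WeilCoh.sm j (genericPoint ↥X.obj.left))) x = T.pull f x := by
  refine ext_tr T fun b => ?_
  rw [tr_act, ← cl_commute, mul_assoc, tr_cl_section_mul T j q hjq, cl_generic, one_mul, map_mul,
    pull_section T j q hjq, pull_pull_of_comp T j p f hjp]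

theorem aeval_pullDeg (F : X ⟶ X) (i : ℤ) (g : Polynomial K) (x : T.gr X i) :
    (Polynomial.aeval (T.pullDeg F i) g x : T.H X) =
      Polynomial.aeval ((T.pull F).toLinearMap : Module.End K (T.H X)) g x := by
  induction g using Polynomial.induction_on' with
  | add g h hg hh => simp [map_add, hg, hh]
  | monomial m c =>
    simp only [Polynomial.aeval_monomial, Module.End.mul_apply, Module.algebraMap_end_apply,
      Submodule.coe_smul]
    congr 1
    induction m with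
    | zero => rfl
    | succ m ih =>
      rw [pow_succ', pow_succ', Module.End.mul_apply, Module.End.mul_apply, ← ih]
      rfl

/-- Every polynomial in `F*` is the action of an algebraic class. -/
theorem exists_act_eq_aeval (p q : P ⟶ X) (hP : WeilCoh.IsProd p q) (F : X ⟶ X) (g : Polynomial K) :
    ∃ u ∈ T.gr P (2 * (WeilCoh.dim X.obj.left : ℤ)) ⊓ Submodule.span K (Set.range (T.cl P)),
      act T p q u = Polynomial.aeval ((T.pull F).toLinearMap : Module.End K (T.H X)) g := by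
  haveI := irreducible X
  induction g using Polynomial.induction_on' with
  | add g h hg hh =>
    obtain ⟨a, ha, ha'⟩ := hg; obtain ⟨b, hb, hb'⟩ := hh
    exact ⟨a + b, add_mem ha hb, by rw [map_add, ha', hb', map_add]⟩
  | monomial m c =>
    let j := lift hP (iter F m) (𝟙 X)
    refine ⟨c • T.cl P (WeilCoh.sm j (genericPoint ↥X.obj.left)), Submodule.smul_mem _ _
      ⟨cl_transpose_mem_gr T p q hP j (lift_snd hP _ _), Submodule.subset_span ⟨_, rfl⟩⟩, ?_⟩
    rw [map_smul, Polynomial.aeval_monomial, ← Algebra.smul_def, ← pull_iter]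
    congr 1
    exact LinearMap.ext fun x => act_cl_transpose T _ p q j (lift_fst hP _ _) (lift_snd hP _ _) x

theorem exists_projector (p q : P ⟶ X) (hP : WeilCoh.IsProd p q) (F : X ⟶ X)
    (hF : ∀ i j : ℤ, i ≠ j → IsCoprime (T.pullDeg F i).charpoly (T.pullDeg F j).charpoly)
    (i : ℤ) :
    ∃ u ∈ T.gr P (2 * (WeilCoh.dim X.obj.left : ℤ)) ⊓ Submodule.span K (Set.range (T.cl P)),
      ∀ (j : ℤ) (x : T.H X), x ∈ T.gr X j → act T p q u x = if j = i then x else 0 := by
  classical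
  let S := (Finset.Icc (0 : ℤ) (2 * (WeilCoh.dim X.obj.left : ℤ))).erase i
  obtain ⟨a, b, hab⟩ : IsCoprime (T.pullDeg F i).charpoly (∏ j ∈ S, (T.pullDeg F j).charpoly) :=
    IsCoprime.prod_right fun j hj => hF i j (Finset.ne_of_mem_erase hj).symm
  obtain ⟨u, hu, hact⟩ := exists_act_eq_aeval T p q hP F (b * ∏ j ∈ S, (T.pullDeg F j).charpoly)
  refine ⟨u, hu, fun j x hx => ?_⟩
  rw [hact, ← show ((⟨x, hx⟩ : T.gr X j) : T.H X) = x from rfl, ← aeval_pullDeg]
  split_ifs with h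
  · subst h
    rw [show b * ∏ i ∈ S, (T.pullDeg F i).charpoly = 1 - a * (T.pullDeg F j).charpoly from
      eq_sub_of_add_eq' hab, map_sub, map_one, map_mul, LinearMap.aeval_self_charpoly, mul_zero]
    simp
  · by_cases hj : j ∈ Finset.Icc (0 : ℤ) (2 * (WeilCoh.dim X.obj.left : ℤ))
    · rw [← Finset.mul_prod_erase S _ (Finset.mem_erase.mpr ⟨h, hj⟩), mul_left_comm, map_mul,
        LinearMap.aeval_self_charpoly, zero_mul]
      rfl
    · have h0 := gr_eq_bot_of_notMem T hj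
      have : (⟨x, hx⟩ : T.gr X j) = 0 := Subtype.ext (by simpa [h0] using hx)
      rw [this, map_zero]
      rfl

end Groth.Agent.Weil
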