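import Groth.Agent.Weil.Geometry
import Mathlib.AlgebraicGeometry.Morphisms.Flat

/-!
# Pull-back of classes along isomorphisms
-/

universe u v

noncomputable section

open AlgebraicGeometry CategoryTheory

namespace Groth.Agent.Weil

variable {k : Type u} [Field k] [IsAlgClosed k]
variable {K : Type v} [Field K] [CharZero K] (T : WeilCoh.Theory k K)
variable {X Y : WeilCoh.Var k}

theorem preimMult_self_of_isIso {A B : Scheme.{u}} (f : A ⟶ B) [IsIso f] (w : A)
    (h : f w ∈ closure ({f w} : Set B)) : WeilCoh.preimMult f (f w) w h = 1 := by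
  have hker : RingHom.ker (Cyc.specMap (f w) (f w) (specializes_iff_mem_closure.mpr h)) =
      IsLocalRing.maximalIdeal (B.presheaf.stalk (f w)) := by
    unfold Cyc.specMap
    rw [TopCat.Presheaf.stalkSpecializes_refl, Category.id_comp]
    exact IsLocalRing.ker_residue
  have hbij : Function.Bijective (f.stalkMap w).hom :=
    ConcreteCategory.bijective_of_isIso (f.stalkMap w)
  have hmax : (Ideal.map (f.stalkMap w).hom (IsLocalRing.maximalIdeal (B.presheaf.stalk (f w)))).IsMaximal :=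
    (Ideal.isMaximal_map_iff_of_bijective _ hbij).mpr inferInstance
  haveI : IsSimpleModule (A.presheaf.stalk w)
      (A.presheaf.stalk w ⧸ Ideal.map (f.stalkMap w).hom (IsLocalRing.maximalIdeal _)) :=
    isSimpleModule_iff_isCoatom.mpr hmax.out
  unfold WeilCoh.preimMult
  rw [hker, Module.length_eq_one]
  rfl

/-- Pull-back of a class along an isomorphism. -/
theorem pull_cl_iso (σ : X ⟶ Y) [IsIso σ] (w : X.obj.left) :
    T.pull σ (T.cl Y (WeilCoh.sm σ w)) = T.cl X w := by
  set s := WeilCoh.sm σ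
  have hinv : s ≫ WeilCoh.sm (inv σ) = 𝟙 _ := congrArg WeilCoh.sm (IsIso.hom_inv_id σ)
  have hinv' : WeilCoh.sm (inv σ) ≫ s = 𝟙 _ := congrArg WeilCoh.sm (IsIso.inv_hom_id σ)
  haveI : IsIso s := ⟨_, hinv, hinv'⟩
  have hpre : s ⁻¹' closure ({s w} : Set Y.obj.left) = closure ({w} : Set X.obj.left) := by
    rw [s.homeomorph.isInducing.closure_eq_preimage_closure_image, Set.image_singleton]
    rfl
  have hcomp : ∀ w', WeilCoh.IsCompPt (s ⁻¹' closure ({s w} : Set Y.obj.left)) w' ↔ w' = w := by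
    intro w'
    rw [hpre]
    constructor
    · intro h
      exact (h.2 w (subset_closure rfl) (specializes_iff_mem_closure.mpr h.1)).symm
    · rintro rfl
      exact ⟨subset_closure rfl, fun w'' h hs => (hs.antisymm (specializes_iff_mem_closure.mpr h)).eq⟩
  haveI := irreducible X; haveI := irreducible Y
  have hdim : WeilCoh.dim X.obj.left = WeilCoh.dim Y.obj.left := by
    unfold WeilCoh.dim WeilCoh.natDim
    rw [IsHomeomorph.topologicalKrullDim_eq _ s.homeomorph.isHomeomorph]
  have hpdim : WeilCoh.pdim X.obj.left w = WeilCoh.pdim Y.obj.left (s w) := by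
    refine pdim_sm_of_residueDegree_ne_zero σ w ?_
    rw [residueDegree_eq_one_of_comp s (WeilCoh.sm (inv σ)) w (by rw [hinv]; exact Scheme.Hom.residueDegree_id _)]
    exact one_ne_zero
  rw [T.cl_pull σ (s w) (fun w' hw' => by rw [(hcomp w').mp hw', hdim, hpdim]; ring)
    (Or.inl ⟨⊤, fun _ _ => trivial, inferInstance⟩),
    finsum_eq_single _ ⟨w, (hcomp w).mpr rfl⟩ fun w' hw' => absurd (Subtype.ext ((hcomp w'.1).mp w'.2)) hw',
    preimMult_self_of_isIso, Nat.cast_one, one_smul]

theorem pull_mem_span_cl (σ : X ⟶ Y) [IsIso σ] {v : T.H Y} (hv : v ∈ Submodule.span K (Set.range (T.cl Y))) :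
    T.pull σ v ∈ Submodule.span K (Set.range (T.cl X)) := by
  have h := Submodule.mem_map_of_mem (f := (T.pull σ).toLinearMap) hv
  rw [Submodule.map_span] at h
  refine Submodule.span_mono ?_ h
  rintro _ ⟨_, ⟨ξ, rfl⟩, rfl⟩
  refine ⟨WeilCoh.sm (inv σ) ξ, ?_⟩
  rw [AlgHom.toLinearMap_apply, ← pull_cl_iso T σ]
  congr 2
  rw [← Scheme.Hom.comp_apply, show WeilCoh.sm (inv σ) ≫ WeilCoh.sm σ = 𝟙 _ from
    congrArg WeilCoh.sm (IsIso.inv_hom_id σ)]
  rfl

end Groth.Agent.Weil
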