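import Groth.Agent.Weil.Corr

/-!
# Correspondences = families of linear maps
-/

universe u v w

noncomputable section

open AlgebraicGeometry CategoryTheory TensorProduct
open scoped Classical

namespace Groth.Agent.Weil

variable {k : Type u} [Field k] {P : ObjectProperty (Over (Spec (CommRingCat.of k)))}
variable {K : Type v} [Field K] (T : WeilCoh.TheoryOn.{u, v, w} k P K)
variable {X Y Q : P.FullSubcategory}

theorem tr_proj_mul {i j : ℤ} (a b : T.H X) (hb : b ∈ T.gr X j)
    (h : i + j = 2 * (WeilCoh.dim X.obj.left : ℤ)) :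
    T.tr X ((proj T X i a : T.H X) * b) = T.tr X (a * b) := by
  induction a using induction_gr T with
  | hom l x hx =>
    by_cases hl : l = i
    · subst hl; rw [proj_of_mem T hx]
    · rw [proj_of_mem_ne T hx hl, tr_mul_eq_zero T hx hb (by omega), Submodule.coe_zero, zero_mul,
        map_zero]
  | add x y hx hy => simp only [map_add, Submodule.coe_add, add_mul, hx, hy]

theorem tr_flip {i j : ℤ} (p : Q ⟶ X) (x : T.H X) (hx : x ∈ T.gr X i) (φ : T.H Q)
    (hφ : φ ∈ T.gr Q j) (z : T.H Q) :
    T.tr Q (T.pull p x * φ * z) = (-1 : K) ^ (i.natAbs * j.natAbs) * T.tr Q (φ * (T.pull p x * z)) := by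
  rw [T.gradedComm Q i j _ _ (T.pull_mem p i x hx) hφ, smul_mul_assoc, map_smul, smul_eq_mul,
    mul_assoc φ]

theorem corr_bijective (p : Q ⟶ X) (q : Q ⟶ Y) (hQ : WeilCoh.IsProd p q) (D : ℤ) :
    Function.Bijective (fun φ : ↥(T.gr Q D) => fun i : ℤ =>
      (T.push q (i + D)) ∘ₗ
        ((LinearMap.mulRight K (φ : T.H Q)).restrict (p := T.gr Q i) (q := T.gr Q (i + D))
          (fun _ hx => SetLike.mul_mem_graded hx φ.2)) ∘ₗ
        (T.pullDeg p i)) := by
  constructor
  · intro φ φ' h
    refine Subtype.ext (ext_tr_prod T p q hQ fun a b => ?_)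
    induction a using induction_gr T with
    | hom i x hx =>
      have h1 := congrArg (fun y : T.gr Y _ => T.tr Y ((y : T.H Y) * b))
        (LinearMap.congr_fun (congrFun h i) ⟨x, hx⟩)
      simp only [LinearMap.comp_apply] at h1
      rw [tr_push T q, tr_push T q] at h1
      have h2 : T.tr Q (T.pull p x * φ.1 * T.pull q b) = T.tr Q (T.pull p x * φ'.1 * T.pull q b) := h1
      rw [tr_flip T p x hx _ φ.2, tr_flip T p x hx _ φ'.2] at h2
      exact mul_left_cancel₀ (pow_ne_zero _ (neg_ne_zero.mpr one_ne_zero)) h2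
    | add x y hx hy => simp only [map_add, add_mul, mul_add, hx, hy]
  · intro g
    let G : T.H X →ₗ[K] T.H Y :=
      DirectSum.toModule K ℤ (T.H Y) (fun i => (-1 : K) ^ (i.natAbs * D.natAbs) •
        (T.gr Y _).subtype ∘ₗ g i) ∘ₗ (decompEquiv T X).symm.toLinearMap
    have hG : ∀ i (x : T.gr X i), G x = (-1 : K) ^ (i.natAbs * D.natAbs) • (g i x : T.H Y) := by
      intro i x
      simp [G, decompEquiv_symm_of_mem T x.2, ← DirectSum.lof_eq_of K]
    let e := LinearEquiv.ofBijective _ (T.kunneth p q hQ)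
    let Φ : Module.Dual K (T.H Q) :=
      TensorProduct.lift (((LinearMap.mul K (T.H Y)).comp G).compr₂ (T.tr Y)) ∘ₗ e.symm.toLinearMap
    have hΦ : ∀ a b, Φ (T.pull p a * T.pull q b) = T.tr Y (G a * b) := by
      intro a b
      have : e.symm (T.pull p a * T.pull q b) = a ⊗ₜ[K] b := by
        rw [LinearEquiv.symm_apply_eq]; rfl
      simp [Φ, this]
    refine ⟨proj T Q D (ofDual T Q Φ), funext fun i => LinearMap.ext fun x => Subtype.ext
      (ext_tr T fun b => ?_)⟩
    simp only [LinearMap.comp_apply]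
    rw [tr_push T q]
    show T.tr Q (T.pull p (x : T.H X) * (proj T Q D (ofDual T Q Φ) : T.H Q) * T.pull q b) = _
    rw [tr_flip T p _ x.2 _ (proj T Q D (ofDual T Q Φ)).2]
    induction b using induction_gr T with
    | hom t b hb =>
      have hz : T.pull p (x : T.H X) * T.pull q b ∈ T.gr Q (i + t) :=
        SetLike.mul_mem_graded (T.pull_mem p i _ x.2) (T.pull_mem q t b hb)
      by_cases h : D + (i + t) = 2 * (WeilCoh.dim Q.obj.left : ℤ)
      · rw [tr_proj_mul T _ _ hz h, tr_ofDual_mul, hΦ, hG, smul_mul_assoc, map_smul, smul_eq_mul,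
          ← mul_assoc, ← pow_add, Even.neg_one_pow ⟨_, rfl⟩, one_mul]
      · rw [tr_mul_eq_zero T (proj T Q D _).2 hz h, mul_zero,
          tr_mul_eq_zero T (g i x).2 hb (by omega)]
    | add b b' hb hb' => simp only [map_add, mul_add, hb, hb']

end Groth.Agent.Weil
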