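import Groth.Agent.Weil.Frob
import Groth.Agent.Weil.Corr

/-!
# Frobenius in cohomology
-/

universe u v

noncomputable section

open AlgebraicGeometry CategoryTheory

namespace Groth.Agent.Weil

variable {k : Type u} [Field k] [IsAlgClosed k] {K : Type v} [Field K] [CharZero K]

theorem eq_genericPoint_of_pdim_eq (X : WeilCoh.Var k) [IrreducibleSpace ↥X.obj.left]
    (z : X.obj.left) (h : WeilCoh.pdim X.obj.left z = WeilCoh.dim X.obj.left) :
    z = genericPoint ↥X.obj.left := by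
  haveI := lft X
  set η := genericPoint ↥X.obj.left
  by_contra hne
  have hlt : closure ({z} : Set X.obj.left) ≠ Set.univ := fun hu =>
    hne (IsGenericPoint.eq (show IsGenericPoint z Set.univ from hu) (genericPoint_spec _))
  obtain ⟨n, hn⟩ : ∃ n : ℕ, n = WeilCoh.dim X.obj.left := ⟨_, rfl⟩
  have h1 := (pdim_eq X.obj.hom z).2
  have h2 := (pdim_eq X.obj.hom η).2
  rw [pdim_genericPoint] at h2
  rw [h, ← hn] at h1
  rw [show closure ({η} : Set X.obj.left) = Set.univ from genericPoint_closure _,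
    (Homeomorph.Set.univ X.obj.left).isHomeomorph.topologicalKrullDim_eq, ← hn] at h2
  obtain ⟨l, hl⟩ := Order.le_krullDim_iff.mp (show (n : WithBot ℕ∞) ≤
    Order.krullDim (TopologicalSpace.IrreducibleCloseds ↥(closure ({z} : Set X.obj.left))) from h1.ge)
  let g : TopologicalSpace.IrreducibleCloseds ↥(closure ({z} : Set X.obj.left)) →
      TopologicalSpace.IrreducibleCloseds ↥X.obj.left := fun Z =>
    ⟨Subtype.val '' (Z : Set _), Z.isIrreducible.image _ continuous_subtype_val.continuousOn,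
      (isClosed_closure (s := ({z} : Set X.obj.left))).isClosedEmbedding_subtypeVal.isClosedMap _ Z.isClosed⟩
  have hg : StrictMono g := fun A B hAB => by
    refine lt_of_le_of_ne (Set.image_mono hAB.le) fun he => hAB.ne ?_
    exact SetLike.coe_injective ((Subtype.val_injective.image_injective) (congrArg SetLike.coe he))
  let top : TopologicalSpace.IrreducibleCloseds ↥X.obj.left :=
    ⟨Set.univ, IrreducibleSpace.isIrreducible_univ _, isClosed_univ⟩
  let m : LTSeries _ := (l.map g hg).snoc top (lt_of_le_of_ne (fun _ _ => trivial) fun (he : (l.map g hg).last = top) => hlt <|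
    Set.eq_univ_of_univ_subset fun x _ => by
      have hx : x ∈ ((l.map g hg).last : Set X.obj.left) := by rw [he]; exact Set.mem_univ x
      rw [LTSeries.last_map] at hx
      obtain ⟨⟨y, hy⟩, -, rfl⟩ := hx
      exact hy)
  have h3 : (m.length : WithBot ℕ∞) ≤ topologicalKrullDim ↥X.obj.left := Order.LTSeries.length_le_krullDim m
  rw [h2] at h3
  simp only [m, RelSeries.snoc_length, LTSeries.map_length, hl] at h3
  exact absurd (by exact_mod_cast h3) (Nat.not_succ_le_self n)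

variable (T : WeilCoh.Theory k K)
variable {k₀ : Type u} [Field k₀] [Finite k₀] [Algebra k₀ k]

theorem sm_frob_genericPoint {X : Scheme.{u}} (f : X ⟶ Spec (CommRingCat.of k₀)) (FX : X ⟶ X)
    (hFb : FX.base = 𝟙 _) (hle : ∀ U : X.Opens, U ≤ FX ⁻¹ᵁ U)
    (hFapp : ∀ (U : X.Opens) (s : Γ(X, U)), (FX.appLE U U (hle U)).hom s = s ^ Nat.card k₀)
    (Xb : WeilCoh.Var k) [IrreducibleSpace ↥Xb.obj.left] (π : Xb.obj.left ⟶ X)
    (hπ : IsPullback π Xb.obj.hom f (Spec.map (CommRingCat.ofHom (algebraMap k₀ k))))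
    (F : Xb ⟶ Xb) (hF : WeilCoh.sm F ≫ π = π ≫ FX) :
    WeilCoh.sm F (genericPoint ↥Xb.obj.left) = genericPoint ↥Xb.obj.left := by
  refine eq_genericPoint_of_pdim_eq Xb _ ?_
  rw [← pdim_sm_of_residueDegree_ne_zero F _ (by
    rw [residueDegree_frob f FX hFb hle hFapp Xb π hπ F hF]
    exact pow_ne_zero _ (Nat.card_pos).ne'), pdim_genericPoint]

/-- `tr (F* a) = q ^ n * tr a`. -/
theorem tr_pull_frob {X : Scheme.{u}} (f : X ⟶ Spec (CommRingCat.of k₀)) (FX : X ⟶ X)
    (hFb : FX.base = 𝟙 _) (hle : ∀ U : X.Opens, U ≤ FX ⁻¹ᵁ U)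
    (hFapp : ∀ (U : X.Opens) (s : Γ(X, U)), (FX.appLE U U (hle U)).hom s = s ^ Nat.card k₀)
    (Xb : WeilCoh.Var k) (π : Xb.obj.left ⟶ X)
    (hπ : IsPullback π Xb.obj.hom f (Spec.map (CommRingCat.ofHom (algebraMap k₀ k))))
    (F : Xb ⟶ Xb) (hF : WeilCoh.sm F ≫ π = π ≫ FX) (a : T.H Xb) :
    T.tr Xb (T.pull F a) = (Nat.card k₀ : K) ^ WeilCoh.dim Xb.obj.left * T.tr Xb a := by
  haveI := irreducible Xb
  have h := cl_push_all T F (genericPoint ↥Xb.obj.left) a
  rw [residueDegree_frob f FX hFb hle hFapp Xb π hπ F hF, pdim_genericPoint, cl_generic, one_mul,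
    sm_frob_genericPoint f FX hFb hle hFapp Xb π hπ F hF, cl_generic, one_mul] at h
  rw [h, Nat.cast_pow]

theorem pairing_frob {X : Scheme.{u}} (f : X ⟶ Spec (CommRingCat.of k₀)) (FX : X ⟶ X)
    (hFb : FX.base = 𝟙 _) (hle : ∀ U : X.Opens, U ≤ FX ⁻¹ᵁ U)
    (hFapp : ∀ (U : X.Opens) (s : Γ(X, U)), (FX.appLE U U (hle U)).hom s = s ^ Nat.card k₀)
    (Xb : WeilCoh.Var k) (π : Xb.obj.left ⟶ X)
    (hπ : IsPullback π Xb.obj.hom f (Spec.map (CommRingCat.ofHom (algebraMap k₀ k))))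
    (F : Xb ⟶ Xb) (hF : WeilCoh.sm F ≫ π = π ≫ FX) (i j : ℤ) (a : T.gr Xb i) (b : T.gr Xb j) :
    WeilCoh.pairing K (T.gr Xb i) (T.gr Xb j) (T.tr Xb) (T.pullDeg F i a) (T.pullDeg F j b) =
      (Nat.card k₀ : K) ^ WeilCoh.dim Xb.obj.left *
        WeilCoh.pairing K (T.gr Xb i) (T.gr Xb j) (T.tr Xb) a b := by
  show T.tr Xb (T.pull F a * T.pull F b) = _ * T.tr Xb ((a : T.H Xb) * b)
  rw [← map_mul (T.pull F), tr_pull_frob T f FX hFb hle hFapp Xb π hπ F hF]

end Groth.Agent.Weil
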